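import Mathlib

/-! # Groups acting on `K × K` with a trivial intersection root group -/

set_option autoImplicit false
set_option linter.unusedSectionVars false

namespace Cfsg.Lib.Sp4F

open Subgroup

theorem back {G X : Type*} [Group G] [Finite G] [MulAction G X] {P : X → Prop} {g : G}
    (h : ∀ v, P v → P (g • v)) (v : X) (hv : P (g • v)) : P v := by
  have hn : ∀ (n : ℕ) v, P v → P (g ^ n • v) := fun n => by
    induction n with
    | zero => simp
    | succ n ih => intro v hv; rw [pow_succ', mul_smul]; exact h _ (ih v hv)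
  have := hn (orderOf g - 1) _ hv
  rwa [← mul_smul, ← pow_succ, Nat.sub_add_cancel (orderOf_pos g), pow_orderOf_eq_one,
    one_smul] at this

theorem pow_smul_eq {G V : Type*} [Group G] [AddCommGroup V] [DistribMulAction G V] {g : G}
    {v z : V} (h : g • v = v + z) (hz : g • z = z) (n : ℕ) : g ^ n • v = v + n • z := by
  induction n with
  | zero => simp
  | succ n ih =>
    rw [pow_succ', mul_smul, ih, smul_add, h, smul_comm g n z, hz, succ_nsmul]; abel

theorem surj_of_ker {K : Type*} [AddCommGroup K] [Finite K] (f : K →+ K)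
    (h : ∀ b, f b = 0 → b = 0) : Function.Surjective f :=
  Finite.injective_iff_surjective.1 ((injective_iff_map_eq_zero f).2 h)

theorem ker_of_surj {K : Type*} [AddCommGroup K] [Finite K] (f : K →+ K)
    (h : Function.Surjective f) (b : K) (hb : f b = 0) : b = 0 :=
  (injective_iff_map_eq_zero f).1 (Finite.injective_iff_surjective.2 h) b hb

variable {K G : Type*} [Field K] [Finite K] [Group G] [DistribMulAction G (K × K)]

theorem r1 (x : K → G) (hx : ∀ u (v : K × K), x u • v = (v.1 + u * v.2, v.2))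
    (ti : ∀ g : G, (∀ b : K, (g • ((b, 0) : K × K)).2 = 0) ∨
      ∀ b : K, (g • ((b, 0) : K × K)).2 = 0 → b = 0)
    (φ : G) (hφ : ¬ ∀ b : K, (φ • ((b, 0) : K × K)).2 = 0) :
    ∃ f : K →+ K, (∀ b : K, (φ • ((b, 0) : K × K)).1 = f (φ • ((b, 0) : K × K)).2) ∧
      ∀ t ≠ 0, ∃ s, ∀ v : K × K, (φ * x s * φ⁻¹) • v =
        (v.1 + f (-(v.1 - f v.2) / t), v.2 - (v.1 - f v.2) / t) := by
  let j : K →+ K × K := (DistribSMul.toAddMonoidHom _ φ).comp (AddMonoidHom.inl K K)
  have hj : ∀ b, j b = φ • ((b, 0) : K × K) := fun _ => rfl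
  have inj : ∀ b, ((AddMonoidHom.snd K K).comp j) b = 0 → b = 0 := (ti φ).resolve_left hφ
  let e := AddEquiv.ofBijective ((AddMonoidHom.snd K K).comp j)
    ⟨(injective_iff_map_eq_zero _).2 inj, surj_of_ker _ inj⟩
  have he : ∀ b, e b = (φ • ((b, 0) : K × K)).2 := fun _ => rfl
  let f : K →+ K := ((AddMonoidHom.fst K K).comp j).comp e.symm.toAddMonoidHom
  have h1 : ∀ c, φ • ((e.symm c, 0) : K × K) = (f c, c) := fun c =>
    Prod.ext rfl (by rw [← he, e.apply_symm_apply])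
  have h2 : ∀ b, φ • ((b, 0) : K × K) = (f (e b), e b) := fun b => by
    rw [← h1, e.symm_apply_apply]
  have h3 : ∀ s (v : K × K), (φ * x s * φ⁻¹) • v =
      v + (f (e (s * (φ⁻¹ • v).2)), e (s * (φ⁻¹ • v).2)) := fun s v => by
    rw [mul_smul, mul_smul, hx, ← h2]
    conv_rhs => rw [← smul_inv_smul φ v, ← smul_add]
    simp only [inv_smul_smul]
    congr 1
    ext <;> simp
  have eta : ∀ v : K × K, v.2 = 0 → (v.1, 0) = v := fun v hv => Prod.ext rfl hv.symm
  refine ⟨f, fun b => by rw [h2], fun t ht => ?_⟩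
  have hk : (φ⁻¹ • ((1, 0) : K × K)).2 ≠ 0 := fun h => by
    have h4 := h2 (φ⁻¹ • ((1, 0) : K × K)).1
    rw [eta _ h, smul_inv_smul, Prod.mk.injEq] at h4
    rw [← h4.2, map_zero] at h4
    exact one_ne_zero h4.1
  refine ⟨e.symm (-1 / t) / (φ⁻¹ • ((1, 0) : K × K)).2, ?_⟩
  set y := φ * x (e.symm (-1 / t) / (φ⁻¹ • ((1, 0) : K × K)).2) * φ⁻¹ with hy
  have h5 : ∀ b, (((φ⁻¹ * x t * y) • ((b, 0) : K × K))).2 = 0 := by
    refine (ti _).resolve_right fun h => one_ne_zero (h 1 ?_)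
    rw [mul_smul, mul_smul, hy, h3, div_mul_cancel₀ _ hk, e.apply_symm_apply, hx]
    have : ((((1, 0) : K × K) + (f (-1 / t), -1 / t)).1 +
        t * (((1, 0) : K × K) + (f (-1 / t), -1 / t)).2,
        (((1, 0) : K × K) + (f (-1 / t), -1 / t)).2) = (f (-1 / t), -1 / t) := by
      ext
      · simp; field_simp; ring
      · simp
    rw [this, ← h1, inv_smul_smul]
  have h6 : ∀ b, y • ((b, 0) : K × K) = (b + f (-b / t), -b / t) := fun b => by
    have h7 := h2 ((φ⁻¹ * x t * y) • ((b, 0) : K × K)).1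
    generalize e _ = d at h7
    rw [eta _ (h5 b), mul_smul, mul_smul, smul_inv_smul, hy, h3, hx, Prod.mk.injEq] at h7
    rw [hy, h3]
    generalize e _ = c at h7 ⊢
    simp only [Prod.mk_add_mk, zero_add] at h7 ⊢
    have : c = -b / t := by
      rw [← h7.2] at h7
      field_simp
      linear_combination h7.1
    rw [this]
  intro v
  have : v = (v.1 - f v.2, 0) + (f v.2, v.2) := by ext <;> simp
  conv_lhs => rw [this, smul_add, h6, hy, h3, ← h1, inv_smul_smul]
  rw [h1]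
  ext
  · simp; ring
  · simp; ring

theorem r1w (x : K → G) (hx : ∀ u (v : K × K), x u • v = (v.1 + u * v.2, v.2)) {f : K →+ K}
    {y : G} {t : K} (ht : t ≠ 0) (hy : ∀ v : K × K, y • v =
      (v.1 + f (-(v.1 - f v.2) / t), v.2 - (v.1 - f v.2) / t)) (v : K × K) :
    (x t * y * x t) • v = (t * v.2 + f (-(v.1 - f v.2) / t), -(v.1 - f v.2) / t) := by
  rw [mul_smul, mul_smul, hx, hy, hx]
  have : -(v.1 + t * v.2 - f v.2) / t = -(v.1 - f v.2) / t - v.2 := by field_simp; ring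
  simp only [this, map_sub]
  ext
  · simp only; field_simp; ring
  · simp only; field_simp; ring

/-- Elements of the torus. -/
theorem tor (x : K → G) (hx : ∀ u (v : K × K), x u • v = (v.1 + u * v.2, v.2))
    (ti : ∀ g : G, (∀ b : K, (g • ((b, 0) : K × K)).2 = 0) ∨
      ∀ b : K, (g • ((b, 0) : K × K)).2 = 0 → b = 0)
    (φ : G) (hφ : ¬ ∀ b : K, (φ • ((b, 0) : K × K)).2 = 0) (L : Subgroup G)
    (h1 : ∀ u, x u ∈ L) (h2 : ∀ u, φ * x u * φ⁻¹ ∈ L) {t : K} (ht : t ≠ 0) :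
    ∃ h ∈ L, (∀ v : K × K, (h • v).2 = v.2 / t) ∧
      ∀ b : K, h • ((b, 0) : K × K) = (t * b, 0) := by
  obtain ⟨f, -, hf⟩ := r1 x hx ti φ hφ
  obtain ⟨s, hs⟩ := hf t ht
  obtain ⟨s', hs'⟩ := hf (-1) (neg_ne_zero.2 one_ne_zero)
  have w1 := r1w x hx ht hs
  have w2 := r1w x hx (neg_ne_zero.2 one_ne_zero) hs'
  refine ⟨_ * _, mul_mem (mul_mem (mul_mem (h1 t) (h2 s)) (h1 t))
    (mul_mem (mul_mem (h1 (-1)) (h2 s')) (h1 (-1))), fun v => ?_, fun b => ?_⟩
  · rw [mul_smul, w2, w1]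
    simp
  · rw [mul_smul, w2, w1]
    simp

end Cfsg.Lib.Sp4F
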