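import Cfsg.Agent.Lib.Symp.Group

/-! # The Sylow subgroup of `Sp₄(K)` in coordinates -/

set_option autoImplicit false
set_option linter.unusedSectionVars false
set_option linter.unnecessarySeqFocus false

namespace Cfsg.Lib.Sp4F

open Subgroup Matrix

/-- Coordinates of a Sylow subgroup of `Sp₄(K)` in the defining characteristic. -/
@[ext] structure U (K : Type*) where
  a : K
  b : K
  c : K
  t : K

namespace U

variable {K : Type*} [Field K]

instance instMul : Mul (U K) := ⟨fun x y =>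
  ⟨x.a + y.a + 2 * x.t * y.b + x.t ^ 2 * y.c, x.b + y.b + x.t * y.c, x.c + y.c, x.t + y.t⟩⟩
instance instOne : One (U K) := ⟨⟨0, 0, 0, 0⟩⟩
instance instInv : Inv (U K) := ⟨fun x =>
  ⟨-x.a + 2 * x.t * x.b - x.t ^ 2 * x.c, -x.b + x.t * x.c, -x.c, -x.t⟩⟩

@[simp] theorem mul_a (x y : U K) :
    (x * y).a = x.a + y.a + 2 * x.t * y.b + x.t ^ 2 * y.c := rfl
@[simp] theorem mul_b (x y : U K) : (x * y).b = x.b + y.b + x.t * y.c := rfl
@[simp] theorem mul_c (x y : U K) : (x * y).c = x.c + y.c := rfl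
@[simp] theorem mul_t (x y : U K) : (x * y).t = x.t + y.t := rfl
@[simp] theorem one_a : (1 : U K).a = 0 := rfl
@[simp] theorem one_b : (1 : U K).b = 0 := rfl
@[simp] theorem one_c : (1 : U K).c = 0 := rfl
@[simp] theorem one_t : (1 : U K).t = 0 := rfl
@[simp] theorem inv_a (x : U K) : x⁻¹.a = -x.a + 2 * x.t * x.b - x.t ^ 2 * x.c := rfl
@[simp] theorem inv_b (x : U K) : x⁻¹.b = -x.b + x.t * x.c := rfl
@[simp] theorem inv_c (x : U K) : x⁻¹.c = -x.c := rfl
@[simp] theorem inv_t (x : U K) : x⁻¹.t = -x.t := rfl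

instance instGroup : Group (U K) := Group.ofLeftAxioms
  (fun x y z => by ext <;> simp <;> ring) (fun x => by ext <;> simp)
  (fun x => by ext <;> simp <;> ring)

/-- The coordinates. -/
def equiv (K : Type*) : U K ≃ K × K × K × K where
  toFun x := (x.a, x.b, x.c, x.t)
  invFun v := ⟨v.1, v.2.1, v.2.2.1, v.2.2.2⟩

instance instFinite {K : Type*} [Finite K] : Finite (U K) := .of_equiv _ (equiv K).symm

theorem card [Finite K] : Nat.card (U K) = Nat.card K ^ 4 := by
  rw [Nat.card_congr (equiv K)]; simp only [Nat.card_prod]; ring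

theorem conj_b (s x : U K) : (s * x * s⁻¹).b = x.b + s.t * x.c - x.t * s.c := by simp; ring
theorem conj_c (s x : U K) : (s * x * s⁻¹).c = x.c := by simp
theorem conj_t (s x : U K) : (s * x * s⁻¹).t = x.t := by simp

/-- The embedding into the symplectic group. -/
def emb (K : Type*) [Field K] : U K →* symplecticGroup (Fin 2) K := MonoidHom.mk' (fun x =>
  ⟨fromBlocks !![1, x.t; 0, 1] !![x.a - x.t * x.b, x.b; x.b - x.t * x.c, x.c] 0 !![1, 0; -x.t, 1],
    by
    rw [SymplecticGroup.mem_iff]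
    ext (i | i) (j | j) <;> fin_cases i <;> fin_cases j <;>
      simp [J, Matrix.mul_apply, Fintype.sum_sum_type] <;> ring⟩) fun x y => by
  ext (i | i) (j | j) <;> fin_cases i <;> fin_cases j <;>
    simp [Matrix.mul_apply, Fintype.sum_sum_type] <;> ring

theorem emb_injective : Function.Injective (emb K) := (injective_iff_map_eq_one _).2 fun x h => by
  have e := fun i j => congrArg (fun M : symplecticGroup (Fin 2) K => M.1 i j) h
  have h1 := e (.inl 0) (.inl 1)
  have h2 := e (.inl 0) (.inr 0)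
  have h3 := e (.inl 0) (.inr 1)
  have h4 := e (.inl 1) (.inr 1)
  simp [emb] at h1 h2 h3 h4
  ext <;> simp_all

theorem nonempty_equiv [Fintype K] {p : ℕ} [hp : Fact p.Prime] [CharP K p]
    (T : Sylow p (symplecticGroup (Fin 2) K)) :
    Nonempty ((T : Subgroup (symplecticGroup (Fin 2) K)) ≃* U K) := by
  have q := MonoidHom.ofInjective (emb_injective (K := K))
  obtain ⟨n, -, hn⟩ := FiniteField.card K p
  have hq : Nat.card K = p ^ (n : ℕ) := by rw [Nat.card_eq_fintype_card, hn]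
  refine ⟨(T.equiv (Sylow.ofCard (emb K).range ?_)).trans q.symm⟩
  have k : ∀ i, ¬ p ∣ (p ^ (n : ℕ)) ^ (i + 1) - 1 := fun i H => hp.out.one_lt.ne' (Nat.dvd_one.1
    ((Nat.dvd_sub_iff_right (Nat.one_le_pow _ _ (pow_pos hp.out.pos _))
      (dvd_pow (dvd_pow_self p n.ne_zero) i.succ_ne_zero)).1 H))
  have k' : ¬ p ∣ ((p ^ (n : ℕ)) ^ 2 - 1) * ((p ^ (n : ℕ)) ^ 4 - 1) := fun H =>
    (hp.out.dvd_mul.1 H).elim (k 1) (k 3)
  rw [← Nat.card_congr q.toEquiv, card, Symp.card_sp, hq]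
  simp only [Fintype.card_fin, Finset.prod_range_succ, Finset.range_zero,
    Finset.prod_empty, one_mul, Nat.reduceAdd, Nat.reduceMul, Nat.reducePow]
  rw [Nat.factorization_mul (pow_pos (pow_pos hp.out.pos _) _).ne' fun H =>
    k' (by rw [H]; exact dvd_zero p), Finsupp.add_apply, Nat.factorization_eq_zero_of_not_dvd k',
    ← pow_mul]
  simp [hp.out.factorization_pow]

theorem isPGroup [Finite K] (p : ℕ) [Fact p.Prime] [CharP K p] : IsPGroup p (U K) := by
  have := Fintype.ofFinite K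
  obtain ⟨n, -, hn⟩ := FiniteField.card K p
  exact .of_card (n := n * 4) (by rw [card, Nat.card_eq_fintype_card, hn, pow_mul])

end U

variable (K : Type*) [Field K]

/-- The abelian subgroup `t = 0`. -/
def sA : Subgroup (U K) where
  carrier := {x | x.t = 0}
  mul_mem' := fun {x y} (hx : x.t = 0) (hy : y.t = 0) => show (x * y).t = 0 by simp [hx, hy]
  one_mem' := rfl
  inv_mem' := fun {x} (hx : x.t = 0) => show x⁻¹.t = 0 by simp [hx]

/-- The subgroup `c = 0`. -/
def sQ : Subgroup (U K) where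
  carrier := {x | x.c = 0}
  mul_mem' := fun {x y} (hx : x.c = 0) (hy : y.c = 0) => show (x * y).c = 0 by simp [hx, hy]
  one_mem' := rfl
  inv_mem' := fun {x} (hx : x.c = 0) => show x⁻¹.c = 0 by simp [hx]

/-- The subgroup `c = t = 0`. -/
def sW : Subgroup (U K) where
  carrier := {x | x.c = 0 ∧ x.t = 0}
  mul_mem' := fun {x y} hx hy => ⟨by simp [hx.1, hy.1], by simp [hx.2, hy.2]⟩
  one_mem' := ⟨rfl, rfl⟩
  inv_mem' := fun {x} hx => ⟨by simp [hx.1], by simp [hx.2]⟩

/-- The subgroup `b = c = t = 0`. -/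
def sZ : Subgroup (U K) where
  carrier := {x | x.b = 0 ∧ x.c = 0 ∧ x.t = 0}
  mul_mem' := fun {x y} hx hy =>
    ⟨by simp [hx.1, hy.1, hy.2.1], by simp [hx.2.1, hy.2.1], by simp [hx.2.2, hy.2.2]⟩
  one_mem' := ⟨rfl, rfl, rfl⟩
  inv_mem' := fun {x} hx => ⟨by simp [hx.1, hx.2.1], by simp [hx.2.1], by simp [hx.2.2]⟩

variable {K} {x : U K}

@[simp] theorem mem_sA : x ∈ sA K ↔ x.t = 0 := Iff.rfl
@[simp] theorem mem_sQ : x ∈ sQ K ↔ x.c = 0 := Iff.rfl
@[simp] theorem mem_sW : x ∈ sW K ↔ x.c = 0 ∧ x.t = 0 := Iff.rfl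
@[simp] theorem mem_sZ : x ∈ sZ K ↔ x.b = 0 ∧ x.c = 0 ∧ x.t = 0 := Iff.rfl

instance normal_sA : (sA K).Normal := ⟨fun x hx s => by simpa using hx⟩
instance normal_sQ : (sQ K).Normal := ⟨fun x hx s => by simpa using hx⟩
instance normal_sW : (sW K).Normal := ⟨fun x hx s => by simpa using hx⟩
instance normal_sZ : (sZ K).Normal :=
  ⟨fun x hx s => ⟨by simp [hx.1, hx.2.1, hx.2.2], by simp [hx.2.1], by simp [hx.2.2]⟩⟩

theorem sZ_le_sW : sZ K ≤ sW K := fun _ h => h.2
theorem sW_le_sA : sW K ≤ sA K := fun _ h => h.2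
theorem sW_le_sQ : sW K ≤ sQ K := fun _ h => h.1

theorem comm_of_sZ (h : x ∈ sZ K) (s : U K) : s * x = x * s := by
  ext <;> simp [h.1, h.2.1, h.2.2] <;> ring

theorem comm_of_sA {y : U K} (h : x ∈ sA K) (h' : y ∈ sA K) : x * y = y * x := by
  rw [mem_sA] at h h'
  ext <;> simp [h, h'] <;> ring

end Cfsg.Lib.Sp4F
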