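import Cfsg.Agent.Lib.Fusion.USpec
import Cfsg.Agent.Lib.Fusion.Iso
import Cfsg.Agent.Lib.Sp4F.U
import Cfsg.Agent.Lib.Sp4F.Lin

/-! # General lemmas on fusion systems -/

set_option autoImplicit false
set_option linter.unusedSectionVars false

namespace Cfsg.Lib.Sp4F

open Subgroup Cfsg.Lib.Transfer Cfsg.Lib.Fusion
open Cfsg.FusionSystem hiding inv_mem
open scoped commutatorElement

variable {p : ℕ} {Ω : Type*} [Group Ω] {S Q L M : Subgroup Ω} {F : FusionSystem S}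

/-- The stability group of a chain of length three. -/
abbrev tri (Q L M : Subgroup Ω) : Subgroup (MulAut Q) := triv Q Q L ⊓ triv Q L M ⊓ triv Q M ⊥

theorem tri_eq_one (hQ : IsPGroup p Q) {α : MulAut Q} (h : α ∈ tri Q L M)
    (hα : (orderOf α).Coprime p) : α = 1 := eq_one_of_ext fun x hx =>
  ext_eq_of_coprime hQ hα (fun y hy hyL => ext_eq_of_coprime hQ hα
    (fun z hz hzM => (inv_mul_eq_one.1 (h.2.2 z hz hzM)).symm) hy (h.1.2.2 y hy hyL)) hx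
    (h.1.1.2 x hx hx)

theorem mem_stab_bot (α : MulAut Q) : α ∈ stab Q ⊥ := fun x hx => by
  rw [mem_bot, mem_bot, ← (homOn_ext α).map_one, (ext_injective α).eq_iff, (homOn_ext α).map_one]

theorem mem_stab_self (α : MulAut Q) : α ∈ stab Q Q := fun _ hx => iff_of_true (ext_mem α hx) hx

theorem le_normalizer_tri {A : Subgroup (MulAut Q)} (hL : A ≤ stab Q L) (hM : A ≤ stab Q M) :
    A ≤ normalizer (tri Q L M : Set (MulAut Q)) :=
  Core.le_normalizer_inf (Core.le_normalizer_inf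
    (le_normalizer_triv (fun α _ => mem_stab_self α) hL) (le_normalizer_triv hL hM))
    (le_normalizer_triv hM fun α _ => mem_stab_bot α)

theorem cjA_mem_tri {s : Ω} (hs : s ∈ normalizer (Q : Set Ω)) (hL : cjA Q s ∈ stab Q L)
    (hM : cjA Q s ∈ stab Q M) (c1 : ∀ x ∈ Q, x⁻¹ * (s * x * s⁻¹) ∈ L)
    (c2 : ∀ x ∈ Q, x ∈ L → x⁻¹ * (s * x * s⁻¹) ∈ M) (c3 : ∀ x ∈ Q, x ∈ M → s * x = x * s) :
    cjA Q s ∈ tri Q L M :=
  ⟨⟨⟨hL, fun x hx _ => by rw [ext_cjA hs hx]; exact c1 x hx⟩, hM, fun x hx h => by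
    rw [ext_cjA hs hx]; exact c2 x hx h⟩, mem_stab_bot _, fun x hx h => by
    rw [ext_cjA hs hx, c3 x hx h]; simp⟩

variable [Fact p.Prime] [Finite S]

theorem mem_of_chain (hF : Sat F p) (hQ : F.IsEssential p Q) (hL : F.autGroup Q ≤ stab Q L)
    (hM : F.autGroup Q ≤ stab Q M) {s : Ω} (hs : s ∈ normalizerIn S Q)
    (c1 : ∀ x ∈ Q, x⁻¹ * (s * x * s⁻¹) ∈ L) (c2 : ∀ x ∈ Q, x ∈ L → x⁻¹ * (s * x * s⁻¹) ∈ M)
    (c3 : ∀ x ∈ Q, x ∈ M → s * x = x * s) : s ∈ Q :=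
  have h3 := cjA_mem_autGroup F hQ.1.1 hs.1
  mem_of_radical hQ.1 (hF.radical_of_essential hQ) (le_normalizer_tri hL hM)
    (fun _ _ hα => tri_eq_one (hF.pg.to_le hQ.1.1) hα) hs
    (cjA_mem_tri hs.2 (hL h3) (hM h3) c1 c2 c3)

theorem eq_cjA_of_tri (hF : Sat F p) (hQ : Q ≤ S) (hn : S ≤ normalizer (Q : Set Ω))
    (n1 : S ≤ normalizer (L : Set Ω)) (n2 : S ≤ normalizer (M : Set Ω))
    (c1 : ∀ s ∈ S, ∀ x ∈ Q, x⁻¹ * (s * x * s⁻¹) ∈ L)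
    (c2 : ∀ s ∈ S, ∀ x ∈ Q, x ∈ L → x⁻¹ * (s * x * s⁻¹) ∈ M)
    (c3 : ∀ s ∈ S, ∀ x ∈ Q, x ∈ M → s * x = x * s) :
    autInducedBy S Q = F.autGroup Q ⊓ tri Q L M := by
  have := finite_of_le hQ
  refine eq_of_not_dvd_relIndex_of_le (hF.not_dvd (fullyNormalized_of_normal hQ hn))
    (isPGroup_of_coprime_eq_one fun α hα => tri_eq_one (hF.pg.to_le hQ) hα.2) inf_le_left
    (le_inf (autInducedBy_le_autGroup F hQ) fun α hα => ?_)
  obtain ⟨s, hs, h, rfl⟩ := mem_autInducedBy'.1 hα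
  exact cjA_mem_tri h (cjA_mem_stab h (n1 hs)) (cjA_mem_stab h (n2 hs)) (c1 s hs) (c2 s hs)
    (c3 s hs)

theorem ext_of_chain (hF : Sat F p) (hQ : Q ≤ S) (hn : S ≤ normalizer (Q : Set Ω))
    (n1 : S ≤ normalizer (L : Set Ω)) (n2 : S ≤ normalizer (M : Set Ω))
    (c1 : ∀ s ∈ S, ∀ x ∈ Q, x⁻¹ * (s * x * s⁻¹) ∈ L)
    (c2 : ∀ s ∈ S, ∀ x ∈ Q, x ∈ L → x⁻¹ * (s * x * s⁻¹) ∈ M)
    (c3 : ∀ s ∈ S, ∀ x ∈ Q, x ∈ M → s * x = x * s) {α : MulAut Q} (hα : α ∈ F.autGroup Q)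
    (hL : α ∈ stab Q L) (hM : α ∈ stab Q M) : ∃ g, Mor F S g ∧ ∀ x ∈ Q, g x = ext α x := by
  obtain ⟨g, h1, h2⟩ := hF.extend_aut (hF.fc (fullyNormalized_of_normal hQ hn)) hα (R := S)
    fun s hs => mem_extr_ext.2 ⟨⟨hs, hn hs⟩, by
      have h := cjA_mem_autInducedBy (P := Q) hs
      rw [eq_cjA_of_tri hF hQ hn n1 n2 c1 c2 c3] at h ⊢
      exact mem_inf.2 ⟨mul_mem (mul_mem hα h.1) (inv_mem hα), (le_normalizer_tri (zpowers_le.2 hL)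
        (zpowers_le.2 hM) (mem_zpowers α) _).1 h.2⟩⟩
  exact ⟨g, h1.mono le_sup_right, h2⟩

theorem constrained_of_unique (hF : Sat F p)
    (h : ∀ E E', F.IsEssential p E → F.IsEssential p E' → E = E') : F.IsConstrained p := by
  by_cases hE : ∃ E, F.IsEssential p E
  swap
  · exact ⟨hF.sat, S, hF.normal_top_iff.2 fun E h => hE ⟨E, h⟩, centric_top F⟩
  obtain ⟨E, hE⟩ := hE
  refine ⟨hF.sat, E, hF.normal_of_essential fun P hP => ?_, hE.1⟩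
  rcases hP with rfl | hP
  · refine ⟨hE.1.1, fun α hα => h _ _ ?_ hE⟩
    have h1 := mor_ext le_rfl hα
    exact essential_of_isConj hE (h1.mono hE.1.1).isConj
      (h1.fullyNormalized_im hE.2.1 (normalizerIn_le _ _))
  · rw [h P E hP hE]
    exact ⟨le_rfl, fun α _ => im_ext α⟩

omit [Fact p.Prime] [Finite S] in
theorem exists_act {V : Type*} [AddCommGroup V] (Γ : Subgroup (MulAut Q)) (π : Ω → V) (σ : V → Ω)
    (h1 : ∀ v, σ v ∈ Q) (h2 : ∀ v, π (σ v) = v) (h3 : ∀ x ∈ Q, ∀ y ∈ Q, π (x * y) = π x + π y)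
    (h4 : ∀ α ∈ Γ, ∀ x ∈ Q, π x = 0 → π (ext α x) = 0) :
    ∃ _ : DistribMulAction Γ V, ∀ (g : Γ), ∀ x ∈ Q, g • π x = π (ext g.1 x) := by
  have h0 : π 1 = 0 := by simpa using h3 1 (one_mem _) 1 (one_mem _)
  have h5 : ∀ α ∈ Γ, ∀ x ∈ Q, π (ext α (σ (π x))) = π (ext α x) := fun α hα x hx => by
    have e1 := h3 _ (inv_mem hx) _ hx
    have e2 := h4 α hα _ (mul_mem (inv_mem hx) (h1 (π x))) (by
      rw [h3 _ (inv_mem hx) _ (h1 _), h2, ← e1, inv_mul_cancel, h0])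
    rw [← add_zero (π (ext α x)), ← e2, ← h3 _ (ext_mem α hx) _
      (ext_mem α (mul_mem (inv_mem hx) (h1 _))), ← homOn_ext α _ hx _
      (mul_mem (inv_mem hx) (h1 _)), mul_inv_cancel_left]
  exact ⟨{
    smul := fun g v => π (ext g.1 (σ v))
    one_smul := fun v => show π (ext 1 (σ v)) = v by rw [ext_one, h2]
    mul_smul := fun g h v => show π (ext (g.1 * h.1) (σ v)) = π (ext g.1 (σ (π (ext h.1 (σ v)))))
      by rw [ext_mul, h5 _ g.2 _ (ext_mem _ (h1 v))]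
    smul_zero := fun g => h4 _ g.2 _ (h1 0) (h2 0)
    smul_add := fun g u v => show π (ext g.1 (σ (u + v))) = π (ext g.1 (σ u)) + π (ext g.1 (σ v))
      by rw [← h3 _ (ext_mem _ (h1 u)) _ (ext_mem _ (h1 v)), ← homOn_ext _ _ (h1 u) _ (h1 v),
        ← h5 _ g.2 _ (mul_mem (h1 u) (h1 v)), h3 _ (h1 u) _ (h1 v), h2, h2] },
    fun g x hx => h5 _ g.2 x hx⟩

theorem mor_pow_inner (hF : Sat F p) {g : Ω → Ω} (hg : Mor F S g) :
    ∃ m : ℕ, ¬ p ∣ m ∧ ∃ s ∈ S, ∀ x ∈ S, g^[m] x = s * x * s⁻¹ := by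
  obtain ⟨α, hα, e⟩ := hg.exists_aut_top
  refine ⟨_, hF.not_dvd_top, ?_⟩
  obtain ⟨s, hs, h⟩ := mem_inn.1 (pow_relIndex_mem (Inn S) hα)
  refine ⟨s, hs, fun x hx => ?_⟩
  rw [← h x hx, ext_pow]
  generalize (Inn S).relIndex _ = m
  induction m generalizing x with
  | zero => rfl
  | succ m ih => rw [Function.iterate_succ_apply, Function.iterate_succ_apply, e x hx,
      ih _ (hg.mem hx)]

end Cfsg.Lib.Sp4F
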