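import Cfsg.Agent.Lib.Schur.Hopf

/-! # An elementary abelian cover with a lifted automorphism -/

set_option autoImplicit false

namespace Cfsg.Lib.Sp4F

open Subgroup Cfsg.Lib.Schur

universe u

theorem exists_cov {L : Type u} [Group L] (hp : commutator L = ⊤) {A : Type*} [CommGroup A]
    (hA : HasSchurMultiplier L A) {B : Type*} [Group B] (φ : A →* B)
    (hφ : Function.Surjective φ) (hB : ∀ b : B, b * b = 1) (γ : L →* L)
    (hγ : ∀ x, γ (γ (γ x)) = x) :
    ∃ (X : Type u) (_ : Group X) (_ : Finite X) (π : X →* L) (η : X →* X), IsStemExtension π ∧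
      (∀ z ∈ π.ker, z * z = 1) ∧ Nat.card B ≤ Nat.card π.ker ∧ (∀ x, π (η x) = γ (π x)) ∧
      ∀ x, η (η (η x)) = x := by
  obtain ⟨Γ, _, _, σ, hσ, ⟨e⟩⟩ := hA.1
  have := finite_group_of_hasSchurMultiplier hA
  have hΓ : ∀ x, x ∈ commutator Γ := fun x => by
    have : σ x ∈ (commutator Γ).map σ := by
      rw [map_commutator_eq, MonoidHom.range_eq_top.2 hσ.1, ← _root_.commutator_def, hp]; trivial
    obtain ⟨y, hy, h⟩ := this
    simpa using mul_mem hy (hσ.2.2 (show y⁻¹ * x ∈ σ.ker by simp [MonoidHom.mem_ker, h]))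
  obtain ⟨U, _, π, hU⟩ := exists_isFreeCentral L
  obtain ⟨η₀, h0⟩ := hU.exists_lift hσ.1 hσ.2.1
  obtain ⟨η₁, h1⟩ := hU.exists_lift' γ hσ.1 hσ.2.1
  let f := MulEquiv.ofBijective (η₀.comp (commutator U).subtype)
    ⟨(injective_iff_map_eq_one _).2 fun x hx => Subtype.ext (mem_bot.1
      (hU.ker_inf_commutator_eq_bot hA hσ e h0 ▸ (⟨hx, x.2⟩ : x.1 ∈ η₀.ker ⊓ commutator U))),
    fun x => by
      obtain ⟨y, hy, h⟩ := map_commutator_of_central hU.surj hσ.2.1 h0 ▸ hΓ x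
      exact ⟨⟨y, hy⟩, h⟩⟩
  let η : Γ →* Γ := η₁.comp ((commutator U).subtype.comp f.symm.toMonoidHom)
  have hη : ∀ x, σ (η x) = γ (σ x) := fun x => by
    obtain ⟨y, rfl⟩ := f.surjective x
    show σ (η₁ (f.symm (f y))) = γ (σ (η₀ y))
    rw [f.symm_apply_apply]
    exact (DFunLike.congr_fun h1 y.1).trans (congrArg γ (DFunLike.congr_fun h0 y.1).symm)
  have h3 : ∀ x, η (η (η x)) = x := fun x => eq_on_commutator_of_central hσ.2.1
    (η := η.comp (η.comp η)) (η' := MonoidHom.id Γ) (MonoidHom.ext fun x => by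
      simp [hη, hγ]) (hΓ x)
  have cm : ∀ z ∈ σ.ker, ∀ x, x * z = z * x := fun z hz => mem_center_iff.1 (hσ.2.1 hz)
  let N : Subgroup Γ :=
    { carrier := {x | ∃ z ∈ σ.ker, z * z = x}
      mul_mem' := by
        rintro _ _ ⟨z, hz, rfl⟩ ⟨w, hw, rfl⟩
        exact ⟨z * w, mul_mem hz hw, by rw [mul_assoc, ← mul_assoc w, cm z hz w]; group⟩
      one_mem' := ⟨1, one_mem _, mul_one _⟩
      inv_mem' := by
        rintro _ ⟨z, hz, rfl⟩
        exact ⟨z⁻¹, inv_mem hz, by group⟩ }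
  have hN : N ≤ σ.ker := by
    rintro _ ⟨z, hz, rfl⟩
    exact mul_mem hz hz
  have := normal_of_le_center (hN.trans hσ.2.1)
  refine ⟨Γ ⧸ N, inferInstance, inferInstance, QuotientGroup.lift N σ hN,
    QuotientGroup.map N N η (by
      rintro _ ⟨z, hz, rfl⟩
      exact ⟨η z, by rw [MonoidHom.mem_ker, hη, hz, map_one], (map_mul _ _ _).symm⟩),
    ⟨fun x => ?_, fun x hx => ?_, fun x _ => ?_⟩, fun x hx => ?_, ?_, fun x => ?_, fun x => ?_⟩
  · obtain ⟨y, rfl⟩ := hσ.1 x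
    exact ⟨y, rfl⟩
  · obtain ⟨x, rfl⟩ := QuotientGroup.mk_surjective x
    refine mem_center_iff.2 fun y => ?_
    obtain ⟨y, rfl⟩ := QuotientGroup.mk_surjective y
    rw [← QuotientGroup.mk_mul, cm x hx, QuotientGroup.mk_mul]
  · obtain ⟨x, rfl⟩ := QuotientGroup.mk_surjective x
    have := mem_map_of_mem (QuotientGroup.mk' N) (hΓ x)
    rw [map_commutator_eq] at this
    exact commutator_mono le_top le_top this
  · obtain ⟨x, rfl⟩ := QuotientGroup.mk_surjective x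
    exact (QuotientGroup.eq_one_iff (x * x)).2 ⟨x, hx, rfl⟩
  · choose s hs using hφ.comp e.surjective
    refine Nat.card_le_card_of_injective (fun b => ⟨((s b).1 : Γ ⧸ N), (s b).2⟩) fun b b' h => ?_
    obtain ⟨z, hz, h1⟩ := QuotientGroup.eq.1 (congrArg Subtype.val h)
    have h2 : (⟨z, hz⟩ * ⟨z, hz⟩ : σ.ker) = (s b)⁻¹ * s b' := Subtype.ext h1
    have h3 := congrArg (fun x => φ (e x)) h2
    simp only [map_mul, map_inv, hB] at h3
    exact (hs b).symm.trans ((inv_mul_eq_one.1 h3.symm).trans (hs b'))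
  · obtain ⟨x, rfl⟩ := QuotientGroup.mk_surjective x
    exact hη x
  · obtain ⟨x, rfl⟩ := QuotientGroup.mk_surjective x
    exact congrArg (QuotientGroup.mk' N) (h3 x)

end Cfsg.Lib.Sp4F
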