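import Cfsg.Agent.Lib.Sp4F.Lin
import Cfsg.Agent.Lib.Coprime.Generation

/-! # Cubic action of a Sylow subgroup on `K × K × K` -/

set_option autoImplicit false
set_option linter.unusedSectionVars false

namespace Cfsg.Lib.Sp4F

open Subgroup

variable {K G : Type*} [Field K] [Finite K] [Group G] [Finite G]
  [DistribMulAction G (K × K × K)] {p : ℕ} [hp : Fact p.Prime] [CharP K p]

variable (K G) in
/-- The stabilizer of the chain. -/
def nrm : Subgroup G where
  carrier := {g | (∀ v : K × K × K, (g • v).2 = 0 ↔ v.2 = 0) ∧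
    ∀ v : K × K × K, (g • v).2.2 = 0 ↔ v.2.2 = 0}
  mul_mem' := fun {g h} hg hh =>
    ⟨fun v => by rw [mul_smul, hg.1, hh.1], fun v => by rw [mul_smul, hg.2, hh.2]⟩
  one_mem' := ⟨fun v => by rw [one_smul], fun v => by rw [one_smul]⟩
  inv_mem' := fun {g} hg =>
    ⟨fun v => by rw [← hg.1, smul_inv_smul], fun v => by rw [← hg.2, smul_inv_smul]⟩

theorem mem_nrm {g : G} (h1 : ∀ v : K × K × K, v.2 = 0 → (g • v).2 = 0)
    (h2 : ∀ v : K × K × K, v.2.2 = 0 → (g • v).2.2 = 0) : g ∈ nrm K G :=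
  ⟨fun v => ⟨back (P := fun v : K × K × K => v.2 = 0) h1 v, h1 v⟩,
    fun v => ⟨back (P := fun v : K × K × K => v.2.2 = 0) h2 v, h2 v⟩⟩

/-- The action on the factors of the chain. -/
def Tr (l : K) (g : G) : Prop := (∀ v : K × K × K, v.2 = 0 → g • v = v) ∧
  (∀ v : K × K × K, v.2.2 = 0 → (g • v).2 = (l * v.2.1, 0)) ∧
  ∀ v : K × K × K, (g • v).2.2 = l ^ 2 * v.2.2

theorem Tr.mul {l m : K} {g h : G} (hg : Tr l g) (hh : Tr m h) : Tr (l * m) (g * h) :=
  ⟨fun v hv => by rw [mul_smul, hh.1 v hv, hg.1 v hv], fun v hv => by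
    rw [mul_smul, hg.2.1 _ (by rw [hh.2.1 v hv]), hh.2.1 v hv, mul_assoc], fun v => by
    rw [mul_smul, hg.2.2, hh.2.2]; ring⟩

theorem tr_one : Tr (1 : K) (1 : G) :=
  ⟨fun v _ => one_smul _ v, fun v hv => by rw [one_smul, one_mul, ← hv], fun v => by simp⟩

theorem Tr.pow {l : K} {g : G} (hg : Tr l g) (n : ℕ) : Tr (l ^ n) (g ^ n) := by
  induction n with
  | zero => simpa using tr_one
  | succ n ih => rw [pow_succ, pow_succ]; exact ih.mul hg

theorem Tr.mem {l : K} {g : G} (hg : Tr l g) : g ∈ nrm K G :=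
  mem_nrm (fun v hv => by rw [hg.1 v hv, hv]) fun v hv => by rw [hg.2.1 v hv]

theorem Tr.conj {g k : G} (hg : Tr (1 : K) g) (hk : k ∈ nrm K G) : Tr (1 : K) (k * g * k⁻¹) := by
  refine ⟨fun v hv => ?_, fun v hv => ?_, fun v => ?_⟩
  · rw [mul_smul, mul_smul, hg.1 _ (((inv_mem hk).1 v).2 hv), smul_inv_smul]
  · have h1 := hg.2.1 _ (((inv_mem hk).2 v).2 hv)
    have h2 := (hk.1 (g • k⁻¹ • v - k⁻¹ • v)).2 (by
      rw [Prod.snd_sub, h1, one_mul, ← ((inv_mem hk).2 v).2 hv, sub_self])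
    rw [smul_sub, smul_inv_smul, Prod.snd_sub, sub_eq_zero] at h2
    rw [mul_smul, mul_smul, h2, one_mul, ← hv]
  · have h2 := (hk.2 (g • k⁻¹ • v - k⁻¹ • v)).2 (by
      rw [Prod.snd_sub, Prod.snd_sub, hg.2.2]; ring)
    rw [smul_sub, smul_inv_smul, Prod.snd_sub, Prod.snd_sub, sub_eq_zero] at h2
    rw [mul_smul, mul_smul, h2]; ring

variable (K G) in
/-- The stability group of the chain. -/
def ch : Subgroup G where
  carrier := {g | Tr (1 : K) g}
  mul_mem' := fun {g h} hg hh => by simpa using Tr.mul hg hh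
  one_mem' := tr_one
  inv_mem' := fun {g} hg => by
    have := Tr.pow hg (orderOf g - 1)
    rwa [one_pow, eq_inv_of_mul_eq_one_left (show g ^ (orderOf g - 1) * g = 1 by
      rw [← pow_succ, Nat.sub_add_cancel (orderOf_pos g), pow_orderOf_eq_one])] at this

theorem p_smul (p : ℕ) [CharP K p] (v : K × K × K) : p • v = 0 := by
  ext <;> simp

/-- The hypotheses. -/
structure Cub (K : Type*) [Field K] [DistribMulAction G (K × K × K)] (x : K → G)
    (S : Sylow p G) : Prop where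
  odd : p ≠ 2
  fa : ∀ g : G, (∀ v : K × K × K, g • v = v) → g = 1
  act : ∀ t (v : K × K × K), x t • v =
    (v.1 + 2 * t * v.2.1 + t ^ 2 * v.2.2, v.2.1 + t * v.2.2, v.2.2)
  syl : ∀ g, g ∈ S ↔ ∃ t, g = x t

/-- Membership in a conjugate of the bottom term. -/
def Zk (k : G) (v : K × K × K) : Prop := (k⁻¹ • v).2 = 0

/-- Membership in a conjugate of the middle term. -/
def Wk (k : G) (v : K × K × K) : Prop := (k⁻¹ • v).2.2 = 0

theorem zk_mul {h k : G} {v : K × K × K} : Zk (h * k) v ↔ Zk k (h⁻¹ • v) := by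
  rw [Zk, Zk, mul_inv_rev, mul_smul]

theorem wk_mul {h k : G} {v : K × K × K} : Wk (h * k) v ↔ Wk k (h⁻¹ • v) := by
  rw [Wk, Wk, mul_inv_rev, mul_smul]

theorem zk_nrm {k : G} (hk : k ∈ nrm K G) {v : K × K × K} : Zk k v ↔ v.2 = 0 := (inv_mem hk).1 v
theorem wk_nrm {k : G} (hk : k ∈ nrm K G) {v : K × K × K} : Wk k v ↔ v.2.2 = 0 :=
  (inv_mem hk).2 v

theorem Zk.add {k : G} {u v : K × K × K} (hu : Zk k u) (hv : Zk k v) : Zk k (u + v) := by
  rw [Zk] at *; rw [smul_add, Prod.snd_add, hu, hv, add_zero]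
theorem Zk.sub {k : G} {u v : K × K × K} (hu : Zk k u) (hv : Zk k v) : Zk k (u - v) := by
  rw [Zk] at *; rw [smul_sub, Prod.snd_sub, hu, hv, sub_zero]
theorem Wk.add {k : G} {u v : K × K × K} (hu : Wk k u) (hv : Wk k v) : Wk k (u + v) := by
  rw [Wk] at *; rw [smul_add, Prod.snd_add, Prod.snd_add, hu, hv, add_zero]
theorem Wk.sub {k : G} {u v : K × K × K} (hu : Wk k u) (hv : Wk k v) : Wk k (u - v) := by
  rw [Wk] at *; rw [smul_sub, Prod.snd_sub, Prod.snd_sub, hu, hv, sub_zero]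
theorem Zk.wk {k : G} {v : K × K × K} (hv : Zk k v) : Wk k v := congrArg Prod.snd hv

theorem Zk.conj {k g : G} (h : k⁻¹ * g * k ∈ nrm K G) {v : K × K × K} (hv : Zk k v) :
    Zk k (g • v) := by
  have := (h.1 _).2 hv
  rwa [mul_smul, smul_inv_smul, mul_smul] at this

theorem Wk.conj {k g : G} (h : k⁻¹ * g * k ∈ nrm K G) {v : K × K × K} (hv : Wk k v) :
    Wk k (g • v) := by
  have := (h.2 _).2 hv
  rwa [mul_smul, smul_inv_smul, mul_smul] at this

/-- A maximal intersection. -/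
structure Mx (G : Type*) [Group G] [DistribMulAction G (K × K × K)]
    (D : AddSubgroup (K × K × K)) : Prop where
  ne : ∃ n ∈ D, n ≠ 0
  max : ∀ h k : G, (∀ v ∈ D, Zk h v) → (∀ v ∈ D, Zk k v) → h⁻¹ * k ∉ nrm K G →
    ∀ v, Zk h v → Zk k v → v ∈ D

theorem Mx.comap {D : AddSubgroup (K × K × K)} (h : Mx G D) (g : G) :
    Mx G (D.comap (DistribSMul.toAddMonoidHom _ g)) := by
  have e : ∀ (k : G) (v : K × K × K), Zk k v ↔ Zk (g * k) (g • v) := fun k v => by
    rw [zk_mul, inv_smul_smul]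
  obtain ⟨n, hn, h0⟩ := h.ne
  have m : ∀ v ∈ D, g⁻¹ • v ∈ D.comap (DistribSMul.toAddMonoidHom _ g) := fun v hv => by
    show g • g⁻¹ • v ∈ D
    rwa [smul_inv_smul]
  refine ⟨⟨_, m n hn, fun h => h0 (by rw [← smul_inv_smul g n, h, smul_zero])⟩, fun a b ha hb hab v h1 h2 =>
    h.max (g * a) (g * b) (fun v hv => zk_mul.2 (ha _ (m v hv)))
      (fun v hv => zk_mul.2 (hb _ (m v hv))) (by simpa [mul_assoc] using hab) _
      ((e _ _).1 h1) ((e _ _).1 h2)⟩

/-- An involution acting as `+, -, +` on a conjugate of the chain. -/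
def Fx (K : Type*) [Field K] [DistribMulAction G (K × K × K)] (σ k : G) : Prop :=
  Tr (-1 : K) (k⁻¹ * σ * k)

theorem Fx.z {σ k : G} (h : Fx K σ k) {v : K × K × K} (hv : Zk k v) : σ • v = v := by
  have := h.1 _ hv
  rwa [mul_smul, smul_inv_smul, mul_smul, smul_left_cancel_iff] at this

theorem Fx.w {σ k : G} (h : Fx K σ k) {v : K × K × K} (hv : Wk k v) : Zk k (σ • v + v) := by
  have := h.2.1 _ hv
  rw [mul_smul, smul_inv_smul, mul_smul] at this
  rw [Zk, smul_add, Prod.snd_add, this]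
  exact Prod.ext (by simp) (by simpa [Wk] using hv)

theorem Fx.w' {σ k : G} (h : Fx K σ k) (v : K × K × K) : Wk k (σ • v - v) := by
  have := h.2.2 (k⁻¹ • v)
  rw [mul_smul, smul_inv_smul, mul_smul] at this
  rw [Wk, smul_sub, Prod.snd_sub, Prod.snd_sub, this]; ring

theorem Fx.conj {σ k : G} (h : Fx K σ k) (g : G) : Fx K (g * σ * g⁻¹) (g * k) := by
  rw [Fx] at *
  convert h using 1; group

theorem fx_of {σ k : G} (h1 : ∀ v : K × K × K, Zk k v → σ • v = v)
    (h2 : ∀ v : K × K × K, Wk k v → Zk k (σ • v + v)) (h3 : ∀ v : K × K × K, Wk k (σ • v - v)) :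
    Fx K σ k := by
  refine ⟨fun v hv => ?_, fun v hv => ?_, fun v => ?_⟩
  · rw [mul_smul, mul_smul, h1 _ (by rwa [Zk, inv_smul_smul]), inv_smul_smul]
  · have := h2 (k • v) (by rwa [Wk, inv_smul_smul])
    rw [Zk, smul_add, inv_smul_smul, Prod.snd_add, add_eq_zero_iff_eq_neg] at this
    rw [mul_smul, mul_smul, this]
    exact Prod.ext (by simp) (by simpa using hv)
  · have := h3 (k • v)
    rw [Wk, smul_sub, inv_smul_smul, Prod.snd_sub, Prod.snd_sub, sub_eq_zero] at this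
    rw [mul_smul, mul_smul, this]; ring

namespace Cub

variable {x : K → G} {S : Sylow p G} (C : Cub K x S)
include C

theorem two : (2 : K) ≠ 0 := fun h => C.odd ((Nat.prime_dvd_prime_iff_eq hp.out Nat.prime_two).1
  ((CharP.cast_eq_zero_iff K p 2).1 (by exact_mod_cast h)))

theorem ext {g h : G} (e : ∀ v : K × K × K, g • v = h • v) : g = h :=
  (inv_mul_eq_one.1 (C.fa _ fun v => by rw [mul_smul, e, inv_smul_smul])).symm

theorem add (s t : K) : x (s + t) = x s * x t := C.ext fun v => by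
  rw [mul_smul]; simp only [C.act]; ext <;> simp only <;> ring

theorem zero : x 0 = 1 := C.fa _ fun v => by simp [C.act]

theorem neg (t : K) : x (-t) = (x t)⁻¹ :=
  eq_inv_of_mul_eq_one_left (by rw [← C.add, neg_add_cancel, C.zero])

theorem tr (t : K) : Tr (1 : K) (x t) :=
  ⟨fun v hv => by
    rw [Prod.ext_iff] at hv
    rw [C.act]; ext <;> simp_all, fun v hv => by simp [C.act, hv], fun v => by simp [C.act]⟩

theorem fix {t : K} (ht : t ≠ 0) {v : K × K × K} (h : x t • v = v) : v.2 = 0 := by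
  rw [C.act, Prod.ext_iff, Prod.ext_iff] at h
  have h1 : v.2.2 = 0 := by simpa [ht] using h.2.1
  have h2 : v.2.1 = 0 := by simpa [ht, h1, C.two] using h.1
  exact Prod.ext h2 h1

theorem of_tr {g : G} (hg : Tr (1 : K) g) : ∃ t, g = x t := by
  have : IsPGroup p (ch K G) := fun ⟨g, hg⟩ => ⟨2, Subtype.ext (C.fa _ fun v => by
    have h1 : ∀ v : K × K × K, v.2.2 = 0 → g ^ p • v = v := fun v hv => by
      rw [pow_smul_eq (z := g • v - v) (by abel) (hg.1 _ (by
        rw [Prod.snd_sub, hg.2.1 v hv, one_mul, ← hv, sub_self])), p_smul, add_zero]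
    show g ^ p ^ 2 • v = v
    rw [pow_two, pow_mul, pow_smul_eq (z := g ^ p • v - v) (by abel) (h1 _ (by
      rw [Prod.snd_sub, Prod.snd_sub, (Tr.pow hg p).2.2]; simp)), p_smul, add_zero])⟩
  have h := S.3 this fun g hg => by
    obtain ⟨t, rfl⟩ := (C.syl g).1 hg
    exact C.tr t
  exact (C.syl g).1 (by
    change g ∈ (S : Subgroup G)
    rw [← h]; exact hg)

theorem conj {k : G} (hk : k ∈ nrm K G) (t : K) : ∃ s, k * x t * k⁻¹ = x s :=
  C.of_tr ((C.tr t).conj hk)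

theorem pow_p (t : K) : x t ^ p = 1 := by
  have : ∀ n : ℕ, x t ^ n = x (n * t) := fun n => by
    induction n with
    | zero => simp [C.zero]
    | succ n ih => rw [pow_succ, ih, ← C.add]; congr 1; push_cast; ring
  rw [this, CharP.cast_eq_zero, zero_mul, C.zero]

theorem ti {k : G} {t : K} (ht : t ≠ 0) (h : k * x t * k⁻¹ ∈ nrm K G) : k ∈ nrm K G := by
  have h1 : IsPGroup p (zpowers (k * x t * k⁻¹)) := fun ⟨g, hg⟩ => ⟨1, Subtype.ext (by
    obtain ⟨m, rfl⟩ := mem_zpowers_iff.1 hg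
    show ((k * x t * k⁻¹) ^ m) ^ p ^ 1 = 1
    rw [pow_one, ← zpow_natCast, ← zpow_mul, mul_comm, zpow_mul, zpow_natCast, conj_pow, C.pow_p]
    simp)⟩
  have h2 : k * x t * k⁻¹ ∈ normalizer ((S : Subgroup G) : Set G) := by
    refine mem_normalizer_fintype fun g hg => ?_
    obtain ⟨u, rfl⟩ := (C.syl g).1 hg
    exact (C.syl _).2 (C.conj h u)
  have h3 : k * x t * k⁻¹ ∈ zpowers (k * x t * k⁻¹) ⊓ (S : Subgroup G) := by
    rw [← h1.inf_normalizer_sylow S]; exact ⟨mem_zpowers _, h2⟩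
  obtain ⟨s, hs⟩ := (C.syl _).1 h3.2
  have hs0 : s ≠ 0 := by
    rintro rfl
    rw [C.zero, conj_eq_one_iff] at hs
    have := C.fix ht (v := (0, 1, 0)) (by rw [hs, one_smul])
    simp at this
  have e : ∀ v : K × K × K, x s • k • v = k • x t • v := fun v => by
    rw [← hs, mul_smul, mul_smul, inv_smul_smul]
  refine mem_nrm (fun v hv => C.fix hs0 (by rw [e, (C.tr t).1 v hv])) fun v hv => ?_
  have : v = x t • ((0, (v.1 - t * v.2.1) / (2 * t), v.2.1 / t) : K × K × K) -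
      (0, (v.1 - t * v.2.1) / (2 * t), v.2.1 / t) := by
    have := C.two
    rw [C.act]
    ext
    · simp only [Prod.fst_sub]; field_simp; ring
    · simp only [Prod.fst_sub, Prod.snd_sub]; field_simp; ring
    · simp [hv]
  rw [this, smul_sub, ← e, C.act]
  simp

variable {D : AddSubgroup (K × K × K)}

theorem infW₀ (hD : Mx G D) (h1 : ∀ v ∈ D, v.2 = 0) {k : G} (h2 : ∀ v ∈ D, Zk k v)
    (hk : k ∉ nrm K G) {v : K × K × K} (hv : Zk k v) (hc : v.2.2 = 0) : v ∈ D := by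
  by_contra hn
  have h0 : ∀ v ∈ D, Zk (1 : G) v := fun v hv => (zk_nrm (one_mem _)).2 (h1 v hv)
  have hb : v.2.1 ≠ 0 := fun hb => hn (hD.max 1 k h0 h2 (by simpa using hk) v
    ((zk_nrm (one_mem _)).2 (Prod.ext hb hc)) hv)
  obtain ⟨n, hnD, n0⟩ := hD.ne
  have n1 := h1 n hnD
  have n2 : n.1 ≠ 0 := fun h => n0 (Prod.ext h n1)
  have := C.two
  have ht : n.1 / (2 * v.2.1) ≠ 0 := by simp [*]
  have e : x (n.1 / (2 * v.2.1)) • v = v + n := by
    rw [C.act]
    ext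
    · simp only [hc, Prod.fst_add]; field_simp; ring
    · simp [hc, n1]
    · simp [hc, n1]
  refine hk ((inv_mem_iff (H := nrm K G)).1 (C.ti ht ?_))
  by_contra h3
  have := hD.max k (x (n.1 / (2 * v.2.1)) * k) h2 (fun w hw => zk_mul.2 (by
    rw [← C.neg, (C.tr _).1 w (h1 w hw)]; exact h2 w hw)) (by simpa [mul_assoc] using h3) (v + n)
    (hv.add (h2 n hnD)) (zk_mul.2 (by rwa [← e, inv_smul_smul]))
  exact hn ((D.add_mem_cancel_right hnD).1 this)

theorem infW (hD : Mx G D) {h k : G} (h1 : ∀ v ∈ D, Zk h v) (h2 : ∀ v ∈ D, Zk k v)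
    (hk : h⁻¹ * k ∉ nrm K G) {v : K × K × K} (hv : Zk k v) (hc : Wk h v) : v ∈ D := by
  have := C.infW₀ (hD.comap h) (fun v hv => by simpa [Zk] using h1 _ hv) (k := h⁻¹ * k)
    (fun v hv => zk_mul.2 (by rw [inv_inv]; exact h2 _ hv)) hk (v := h⁻¹ • v)
    (zk_mul.2 (by rwa [inv_inv, smul_inv_smul])) hc
  simpa using this

theorem cyc (hD : Mx G D) (h1 : ∀ v ∈ D, v.2 = 0) {k : G} (h2 : ∀ v ∈ D, Zk k v)
    (hk : k ∉ nrm K G) {y : K × K × K} (hc : y.2.2 = 0) (hy : Wk k y) (hn : y ∉ D) :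
    ∃ δ : K × K × K, ∀ v ∈ D, ∃ m : ℤ, v = m • δ := by
  have two := C.two
  have h0 : ∀ v ∈ D, Zk (1 : G) v := fun v hv => (zk_nrm (one_mem _)).2 (h1 v hv)
  have hb : y.2.1 ≠ 0 := fun hb => hn (C.infW hD h2 h0 (by simpa using hk)
    ((zk_nrm (one_mem _)).2 (Prod.ext hb hc)) hy)
  have hz : ¬ Zk k y := fun h => hn (C.infW₀ hD h1 h2 hk h hc)
  have ex : ∀ t, x t • y = y + (2 * t * y.2.1, 0, 0) := fun t => by
    rw [C.act]; ext <;> simp [hc]
  let R : Subgroup G :=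
    { carrier := {g | (∀ v ∈ D, g • v = v) ∧ g • y = y}
      mul_mem' := fun {g h} hg hh => ⟨fun v hv => by rw [mul_smul, hh.1 v hv, hg.1 v hv],
        by rw [mul_smul, hh.2, hg.2]⟩
      one_mem' := ⟨fun v _ => one_smul _ v, one_smul _ y⟩
      inv_mem' := fun {g} hg => ⟨fun v hv => inv_smul_eq_iff.2 (hg.1 v hv).symm,
        inv_smul_eq_iff.2 hg.2.symm⟩ }
  let B : Subgroup G :=
    { carrier := {g | ∃ t, g = x t ∧ ((2 * t * y.2.1, 0, 0) : K × K × K) ∈ D}
      mul_mem' := by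
        rintro _ _ ⟨s, rfl, hs⟩ ⟨t, rfl, ht⟩
        exact ⟨s + t, (C.add s t).symm, by simpa [mul_add, add_mul] using D.add_mem hs ht⟩
      one_mem' := ⟨0, C.zero.symm, by rw [mul_zero, zero_mul]; exact D.zero_mem⟩
      inv_mem' := by
        rintro _ ⟨t, rfl, ht⟩
        exact ⟨-t, (C.neg t).symm, by simpa using D.neg_mem ht⟩ }
  have hB : IsCyclic B := by
    by_contra hB
    have hR : R ≤ nrm K G := by
      refine Coprime.le_of_forall_centralizer_le (A := B) ⟨⟨?_⟩⟩ hB ?_ ?_ ?_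
      · rintro ⟨_, s, rfl, _⟩ ⟨_, t, rfl, _⟩
        exact Subtype.ext (show x s * x t = x t * x s by rw [← C.add, ← C.add, add_comm])
      · rintro _ ⟨t, rfl, ht⟩
        refine mem_normalizer_fintype fun r hr => ⟨fun v hv => ?_, ?_⟩
        · rw [mul_smul, mul_smul, ← C.neg, (C.tr _).1 v (h1 v hv), hr.1 v hv,
            (C.tr _).1 v (h1 v hv)]
        · rw [mul_smul, mul_smul, ← C.neg, ex, smul_add, hr.2,
            hr.1 _ (by simpa using D.neg_mem ht), ← ex, C.neg, smul_inv_smul]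
      · obtain ⟨n, hn'⟩ := IsPGroup.iff_card.1 (S.2.to_le (show B ≤ S from by
          rintro _ ⟨t, rfl, -⟩; exact (C.syl _).2 ⟨t, rfl⟩))
        rw [hn']
        refine Nat.Coprime.pow_left _ ((Nat.Prime.coprime_iff_not_dvd hp.out).2 fun hd => ?_)
        obtain ⟨⟨r, hr⟩, ho⟩ := exists_prime_orderOf_dvd_card' p hd
        rw [orderOf_mk] at ho
        obtain ⟨T, hT⟩ := (IsPGroup.of_card (n := 1) (by rw [Nat.card_zpowers, ho, pow_one]) :
          IsPGroup p (zpowers r)).exists_le_sylow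
        obtain ⟨g, rfl⟩ := MulAction.exists_smul_eq G S T
        have h3 : g⁻¹ * r * g ∈ (S : Subgroup G) := by
          have := hT (mem_zpowers r)
          rw [Sylow.coe_subgroup_smul, mem_pointwise_smul_iff_inv_smul_mem] at this
          simpa using this
        obtain ⟨t, ht⟩ := (C.syl _).1 h3
        have t0 : t ≠ 0 := by
          rintro rfl
          rw [C.zero, mul_assoc, inv_mul_eq_one, eq_comm, mul_eq_right] at ht
          rw [ht, orderOf_one] at ho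
          exact hp.out.one_lt.ne ho
        have h4 : ∀ v : K × K × K, r • v = v → Zk g v := fun v hv => C.fix t0 (by
          rw [← ht, mul_smul, mul_smul, smul_inv_smul, hv])
        by_cases hg : g ∈ nrm K G
        · exact hb (congrArg Prod.fst ((zk_nrm hg).1 (h4 y hr.2)))
        · exact hn (C.infW₀ hD h1 (fun v hv => h4 v (hr.1 v hv)) hg (h4 y hr.2) hc)
      · rintro _ ⟨t, rfl, -⟩ h3 r ⟨-, hr⟩
        refine C.ti (t := t) (fun h => h3 (by rw [h, C.zero])) ?_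
        rw [mem_centralizer_singleton_iff.1 hr, mul_inv_cancel_right]
        exact (C.tr t).mem
    obtain ⟨n, hnD, n0⟩ := hD.ne
    have n1 := h1 n hnD
    have n2 := h2 n hnD
    have n3 : (k⁻¹ • n).1 ≠ 0 := fun h => n0 (by
      rw [← smul_inv_smul k n, show k⁻¹ • n = 0 from Prod.ext h n2, smul_zero])
    have b0 : (k⁻¹ • y).2.1 ≠ 0 := fun h => hz (Prod.ext h hy)
    have e1 : x ((k⁻¹ • n).1 / (2 * (k⁻¹ • y).2.1)) • k⁻¹ • y = k⁻¹ • y + k⁻¹ • n := by
      rw [Wk] at hy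
      rw [Zk] at n2
      rw [C.act]
      ext
      · simp only [hy, Prod.fst_add]; field_simp; ring
      · simp [hy, n2]
      · simp [hy, n2]
    refine hk (C.ti (t := (k⁻¹ • n).1 / (2 * (k⁻¹ • y).2.1)) (by simp [*]) ?_)
    refine (mul_mem_cancel_left (C.tr (-(n.1 / (2 * y.2.1)))).mem).1 (hR ⟨fun v hv => ?_, ?_⟩)
    · rw [mul_smul, mul_smul, mul_smul, (C.tr _).1 _ (h2 v hv), smul_inv_smul,
        (C.tr _).1 _ (h1 v hv)]
    · rw [mul_smul, mul_smul, mul_smul, e1, smul_add k, smul_inv_smul, smul_inv_smul, C.neg,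
        inv_smul_eq_iff, ex]
      congr 1
      exact Prod.ext (by simp only; field_simp) n1
  obtain ⟨⟨_, t₀, rfl, h3⟩, hg⟩ := hB.exists_generator
  refine ⟨(2 * t₀ * y.2.1, 0, 0), fun v hv => ?_⟩
  have e : ((2 * (v.1 / (2 * y.2.1)) * y.2.1, 0, 0) : K × K × K) = v :=
    Prod.ext (by simp only; field_simp) (h1 v hv).symm
  obtain ⟨m, hm⟩ := mem_zpowers_iff.1 (hg ⟨_, v.1 / (2 * y.2.1), rfl, e.symm ▸ hv⟩)
  have h4 : x (m * t₀) = x (v.1 / (2 * y.2.1)) := by
    rw [← show x t₀ ^ m = x (v.1 / (2 * y.2.1)) from congrArg Subtype.val hm, ← zsmul_eq_mul]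
    exact map_zpow (MonoidHom.mk' (M := Multiplicative K) (fun t => x t.toAdd)
      fun s t => C.add _ _) (Multiplicative.ofAdd t₀) m
  have h5 := ex (m * t₀)
  rw [h4, ex, e, add_right_inj] at h5
  exact ⟨m, by rw [h5]; ext <;> simp; ring⟩

end Cub

end Cfsg.Lib.Sp4F
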