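import Cfsg.Agent.Lib.Sp4F.Cub

/-! # Cubic action together with a torus: no fixed points -/

set_option autoImplicit false
set_option linter.unusedSectionVars false

namespace Cfsg.Lib.Sp4F

open Subgroup

variable {K G : Type*} [Field K] [Finite K] [Group G] [Finite G]
  [DistribMulAction G (K × K × K)] {p : ℕ} [hp : Fact p.Prime] [CharP K p]

theorem Fx.mul_nrm {σ k m : G} (h : Fx K σ k) (hm : m ∈ nrm K G) : Fx K σ (k * m) := by
  have e1 : ∀ v : K × K × K, Zk (k * m) v ↔ Zk k v := fun v => by rw [zk_mul, zk_nrm hm, Zk]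
  have e2 : ∀ v : K × K × K, Wk (k * m) v ↔ Wk k v := fun v => by rw [wk_mul, wk_nrm hm, Wk]
  exact fx_of (fun v hv => h.z ((e1 v).1 hv)) (fun v hv => (e1 _).2 (h.w ((e2 v).1 hv)))
    fun v => (e2 _).2 (h.w' v)

namespace Cub

variable {x : K → G} {S : Sylow p G} (C : Cub K x S) {D : AddSubgroup (K × K × K)} {τ : G}
include C

theorem fx_mul {σ σ' k : G} (h : Fx K σ k) (h' : Fx K σ' k) : ∃ s, σ * σ' = k * x s * k⁻¹ := by
  obtain ⟨s, hs⟩ := C.of_tr (by simpa using Tr.mul h h' :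
    Tr (1 : K) (k⁻¹ * σ * k * (k⁻¹ * σ' * k)))
  exact ⟨s, by rw [← hs]; group⟩

theorem eq_zero_of_fix {k : G} {s : K} {y : K × K × K} (hy : ¬ Zk k y)
    (h : (k * x s * k⁻¹) • y = y) : s = 0 := by
  by_contra hs
  rw [mul_smul, mul_smul, smul_eq_iff_eq_inv_smul] at h
  exact hy (C.fix hs h)

theorem fx_sq {σ k : G} (h : Fx K σ k) : σ * σ = 1 := by
  obtain ⟨s, hs⟩ := C.fx_mul h h
  have h1 : Wk k (k • ((0, 1, 0) : K × K × K)) := by simp [Wk]
  have h2 := h.z (h.w h1)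
  rw [smul_add, add_comm, add_right_inj, ← mul_smul, hs] at h2
  rw [hs, C.eq_zero_of_fix (by simp [Zk]) h2, C.zero]; group

theorem fx_eq {σ σ' k : G} (h : Fx K σ k) (h' : Fx K σ' k) {y : K × K × K} (hy : ¬ Zk k y)
    (e : σ • y = σ' • y) : σ = σ' := by
  obtain ⟨s, hs⟩ := C.fx_mul h h'
  have h1 : (σ * σ') • y = y := by rw [mul_smul, ← e, ← mul_smul, C.fx_sq h, one_smul]
  rw [hs] at h1
  rw [C.eq_zero_of_fix hy h1, C.zero, mul_one, mul_inv_cancel] at hs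
  exact mul_right_cancel (hs.trans (C.fx_sq h').symm)

theorem fx_two {σ σ' i j : G} (h1 : Fx K σ i) (h2 : Fx K σ' i) (h3 : Fx K σ j) (h4 : Fx K σ' j)
    (hij : j⁻¹ * i ∉ nrm K G) : σ = σ' := by
  obtain ⟨s, hs⟩ := C.fx_mul h1 h2
  obtain ⟨t, ht⟩ := C.fx_mul h3 h4
  by_cases h0 : s = 0
  · rw [h0, C.zero, mul_one, mul_inv_cancel] at hs
    exact mul_right_cancel (hs.trans (C.fx_sq h2).symm)
  · refine absurd (C.ti h0 ?_) hij
    rw [show j⁻¹ * i * x s * (j⁻¹ * i)⁻¹ = j⁻¹ * (i * x s * i⁻¹) * j by group, ← hs, ht,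
      show j⁻¹ * (j * x t * j⁻¹) * j = x t by group]
    exact (C.tr t).mem

variable (hτ : ∀ v : K × K × K, τ • v = (v.1, -v.2.1, v.2.2))
include hτ

omit C in
theorem fx_one : Fx K τ (1 : G) := by
  rw [Fx, inv_one, one_mul, mul_one]
  exact ⟨fun v hv => by rw [hτ]; exact Prod.ext rfl (by simp [hv]),
    fun v hv => by simp [hτ, hv], fun v => by simp [hτ]⟩

theorem step2 {k : G} (hm : k⁻¹ * τ * k ∈ nrm K G)
    (hZ : ∀ v : K × K × K, Zk k v → v.2.2 = 0 → v.2.1 = 0) :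
    Fx K τ k ∧ ∀ b : K, Wk k ((0, b, 0) : K × K × K) := by
  have two := C.two
  have h1 : ∀ v : K × K × K, Zk k v → v.2.1 = 0 := fun v hv => by
    have := hZ _ (hv.sub (hv.conj hm)) (by simp [hτ])
    simpa [hτ, ← two_mul, two] using this
  have tt : τ * τ = 1 := C.fx_sq (fx_one hτ)
  have hinv : ∀ t, τ * (k * x t * k⁻¹) = k * x (-t) * k⁻¹ * τ := fun t => by
    obtain ⟨t', ht'⟩ := C.conj hm t
    have e1 : τ * (k * x t * k⁻¹) = k * x t' * k⁻¹ * τ := by rw [← ht']; group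
    have e2 : τ * (k * x t' * k⁻¹) = k * x t * k⁻¹ * τ := by
      rw [← mul_one (τ * _), ← tt, ← mul_assoc, mul_assoc τ, ← e1, ← mul_assoc, ← mul_assoc, tt,
        one_mul]
    have e3 : τ * (k * x (t + t') * k⁻¹) = k * x (t + t') * k⁻¹ * τ := by
      conv_lhs => rw [C.add]
      rw [add_comm, C.add]
      calc _ = τ * (k * x t * k⁻¹) * (k * x t' * k⁻¹) := by group
        _ = k * x t' * k⁻¹ * (τ * (k * x t' * k⁻¹)) := by rw [e1]; group
        _ = _ := by rw [e2]; group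
    suffices t + t' = 0 by rw [e1, ← eq_neg_of_add_eq_zero_right this]
    by_contra h0
    set s := k * x (t + t') * k⁻¹ with hs
    have a1 : ∀ v : K × K × K, τ • v = -v → τ • (s • v - v) = -(s • v - v) := fun v hv => by
      rw [smul_sub, ← mul_smul, e3, mul_smul, hv, smul_neg]; abel
    have a2 : ∀ v : K × K × K, τ • v = -v → s • v - v = 0 → v = 0 := fun v hv h => by
      have b1 := h1 v (C.fix h0 (by
        rw [sub_eq_zero, hs, mul_smul, mul_smul, smul_eq_iff_eq_inv_smul] at h; exact h))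
      rw [hτ, Prod.ext_iff, Prod.ext_iff] at hv
      refine Prod.ext ?_ (Prod.ext b1 ?_)
      · simpa [eq_neg_iff_add_eq_zero, ← two_mul, two] using hv.1
      · simpa [eq_neg_iff_add_eq_zero, ← two_mul, two] using hv.2.2
    have a3 : ∀ v : K × K × K, s • v - v = k • (x (t + t') • k⁻¹ • v - k⁻¹ • v) := fun v => by
      rw [smul_sub, smul_inv_smul, hs, mul_smul, mul_smul]
    have y0 : τ • ((0, 1, 0) : K × K × K) = -(0, 1, 0) := by simp [hτ]
    have := a2 _ y0 (a2 _ (a1 _ y0) (a2 _ (a1 _ (a1 _ y0)) (by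
      simp only [a3, inv_smul_smul, C.act]
      convert smul_zero k
      ext <;> simp)))
    simp at this
  have h2 : ∀ v : K × K × K, Wk k v → v.2.1 = 0 → Zk k v := fun v hv hb => by
    have e1 : τ • v = v := by rw [hτ]; exact Prod.ext rfl (Prod.ext (by simp [hb]) rfl)
    have e2 : ∀ t, (k * x t * k⁻¹) • v = v + k • (2 * t * (k⁻¹ • v).2.1, 0, 0) := fun t => by
      rw [Wk] at hv
      rw [mul_smul, mul_smul, C.act]
      conv_rhs => rw [← smul_inv_smul k v, ← smul_add]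
      congr 1
      ext <;> simp [hv]
    have e3 := congrArg (· • v) (hinv 1)
    have e4 := h1 (k • (2 * 1 * (k⁻¹ • v).2.1, 0, 0)) (by simp [Zk])
    simp only [mul_smul τ, mul_smul _ τ, e1, e2, smul_add, add_right_inj] at e3
    rw [show τ • k • ((2 * 1 * (k⁻¹ • v).2.1, 0, 0) : K × K × K) =
        k • (2 * 1 * (k⁻¹ • v).2.1, 0, 0) from by
      rw [hτ]; exact Prod.ext rfl (Prod.ext (by simp only [e4, neg_zero]) rfl),
      smul_left_cancel_iff] at e3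
    refine Prod.ext ?_ hv
    have := congrArg Prod.fst e3
    simp only at this
    have h4 : 2 * 2 * (k⁻¹ • v).2.1 = 0 := by linear_combination this
    simpa [two] using h4
  have h3 : ∀ b : K, Wk k ((0, b, 0) : K × K × K) := fun b => by
    obtain ⟨β, hβ⟩ := surj_of_ker (((AddMonoidHom.fst K K).comp (AddMonoidHom.snd K _)).comp
      ((DistribSMul.toAddMonoidHom _ k).comp ((AddMonoidHom.inr K _).comp (AddMonoidHom.inl K K))))
      (fun β h => by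
        have := h2 (k • (0, β, 0)) (by simp [Wk]) h
        rw [Zk, inv_smul_smul] at this
        exact congrArg Prod.fst this) (b / 2)
    have e1 : Wk k (k • ((0, β, 0) : K × K × K)) := by simp [Wk]
    have e2 : (k • ((0, β, 0) : K × K × K)).2.1 = b / 2 := hβ
    convert e1.sub (e1.conj hm) using 1
    rw [hτ]
    ext <;> simp [e2]
    field_simp; ring
  refine ⟨fx_of (fun v hv => ?_) (fun v hv => h2 _ ((hv.conj hm).add hv) (by simp [hτ]))
    fun v => ?_, h3⟩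
  · rw [hτ]; exact Prod.ext rfl (Prod.ext (by simp [h1 v hv]) rfl)
  · convert h3 (-v.2.1 - v.2.1) using 1
    rw [hτ]; ext <;> simp

theorem zne {k : G} (hk : k ∉ nrm K G) : ¬ ∀ v : K × K × K, v.2 = 0 → Zk k v := fun hz => by
  have bk : ∀ {k : G}, (∀ v : K × K × K, v.2 = 0 → Zk k v) → ∀ v : K × K × K, Zk k v → v.2 = 0 :=
    fun h => back (P := fun v : K × K × K => v.2 = 0) h
  have fin : ∀ {k : G}, (∀ v : K × K × K, v.2 = 0 → Zk k v) →
      (∀ b : K, Wk k ((0, b, 0) : K × K × K)) → k ∈ nrm K G := fun h1 h2 =>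
    (inv_mem_iff (H := nrm K G)).1 (mem_nrm h1 fun v hv => by
      have := (h1 (v.1, 0, 0) rfl).wk.add (h2 v.2.1)
      rwa [show ((v.1, 0, 0) : K × K × K) + (0, v.2.1, 0) = v by ext <;> simp [hv]] at this)
  obtain ⟨v, h1, h2⟩ : ∃ v : K × K × K, Wk k v ∧ v.2.2 ≠ 0 := by
    by_contra! h
    exact hk (mem_nrm (fun v hv => bk hz _ (by rwa [Zk, inv_smul_smul]))
      fun v hv => h _ (by rwa [Wk, inv_smul_smul]))
  obtain ⟨k, hk, hz, v, h1, h2, h3⟩ : ∃ k ∉ nrm K G, (∀ v : K × K × K, v.2 = 0 → Zk k v) ∧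
      ∃ v : K × K × K, Wk k v ∧ v.2.2 ≠ 0 ∧ v.2.1 = 0 :=
    ⟨x (-(v.2.1 / v.2.2)) * k, fun h => hk ((mul_mem_cancel_left (C.tr _).mem).1 h),
      fun w hw => zk_mul.2 (by rw [← C.neg, (C.tr _).1 w hw]; exact hz w hw),
      x (-(v.2.1 / v.2.2)) • v, wk_mul.2 (by rwa [inv_smul_smul]), by simpa [C.act] using h2,
      by simp [C.act, h2]⟩
  by_cases hm : k⁻¹ * τ * k ∈ nrm K G
  · exact hk (fin hz (C.step2 hτ hm fun v hv _ => congrArg Prod.fst (bk hz v hv)).2)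
  have ti : τ⁻¹ = τ := inv_eq_of_mul_eq_one_left (C.fx_sq (fx_one hτ))
  let Z : AddSubgroup (K × K × K) := (AddMonoidHom.snd K (K × K)).ker
  have hZ : Mx G Z := ⟨⟨(1, 0, 0), rfl, by simp⟩, fun h k h1 _ _ v hv _ => bk h1 v hv⟩
  have e1 : τ • v = v := by rw [hτ]; exact Prod.ext rfl (Prod.ext (by simp [h3]) rfl)
  have z1 : ∀ w : K × K × K, w.2 = 0 → Zk (k⁻¹ * τ * k) w := fun w hw => by
    have := bk hz (k • w) (by rwa [Zk, inv_smul_smul])
    rw [mul_assoc, zk_mul, zk_mul, inv_inv, ti, hτ]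
    exact hz _ (by simp [this])
  have y1 : Wk (k⁻¹ * τ * k) (k⁻¹ • v) := by
    rwa [mul_assoc, wk_mul, wk_mul, inv_inv, smul_inv_smul, ti, e1]
  have y2 : ¬ (k⁻¹ • v).2 = 0 := fun h => h2 (congrArg Prod.snd (bk hz v h))
  obtain ⟨δ, hδ⟩ := C.cyc hZ (fun v hv => hv) z1 hm h1 y1 y2
  refine hm (fin z1 fun b => ?_)
  have y3 : (k⁻¹ • v).2.1 ≠ 0 := fun h => y2 (Prod.ext h h1)
  obtain ⟨m, hm⟩ := hδ (b / (k⁻¹ • v).2.1, 0, 0) rfl
  obtain ⟨m', hm'⟩ := hδ (1, 0, 0) rfl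
  have f1 : b / (k⁻¹ • v).2.1 = m * δ.1 := by simpa using congrArg Prod.fst hm
  have f2 : 1 = m' * δ.1 := by simpa using congrArg Prod.fst hm'
  obtain ⟨r, hr⟩ : ∃ r : ℤ, (r : K) * m' = 1 := by
    have : (m' : K) ≠ 0 := fun h => by simp [h] at f2
    have h5 : IsCoprime (m' : ℤ) p := by
      rw [isCoprime_comm, (Nat.prime_iff_prime_int.1 hp.out).coprime_iff_not_dvd]
      exact fun h => this ((CharP.intCast_eq_zero_iff K p m').2 h)
    obtain ⟨r, s, h6⟩ := h5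
    exact ⟨r, by simpa using congrArg (Int.cast : ℤ → K) h6⟩
  have f3 : b = (m * r : ℤ) * (k⁻¹ • v).2.1 := by
    rw [div_eq_iff y3] at f1
    push_cast
    linear_combination f1 + m * δ.1 * (k⁻¹ • v).2.1 * hr.symm - m * r * (k⁻¹ • v).2.1 * f2
  have : ((0, b, 0) : K × K × K) = (m * r) • k⁻¹ • v - (((m * r) • k⁻¹ • v).1, 0, 0) := by
    rw [Wk] at h1
    ext
    · simp
    · simpa using f3
    · simp [h1]
  rw [this]
  refine Wk.sub ?_ (z1 _ rfl).wk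
  rw [Wk] at y1 ⊢
  rw [smul_comm, Prod.smul_snd, Prod.smul_snd, y1, smul_zero]

theorem exists_c (hD : Mx G D) (h1 : ∀ v ∈ D, v.2 = 0) {k : G} (h2 : ∀ v ∈ D, Zk k v)
    (hk : k ∉ nrm K G) : ∃ v : K × K × K, Zk k v ∧ v.2.2 ≠ 0 := by
  by_contra! h
  exact C.zne hτ (k := k⁻¹) (by simpa using hk) fun v hv => by
    rw [Zk, inv_inv]
    have : Zk k (k • v) := by rwa [Zk, inv_smul_smul]
    exact h1 _ (C.infW₀ hD h1 h2 hk this (h _ this))

theorem step1 (hD : Mx G D) (h1 : ∀ v ∈ D, v.2 = 0) {k : G} (h2 : ∀ v ∈ D, Zk k v)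
    (hk : k ∉ nrm K G) : ∃ u, Fx K τ (x u * k) ∧ ∀ b : K, Wk (x u * k) ((0, b, 0) : K × K × K) := by
  obtain ⟨v, h3, h4⟩ := C.exists_c hτ hD h1 h2 hk
  refine ⟨-(v.2.1 / v.2.2), ?_⟩
  set u := -(v.2.1 / v.2.2) with hu
  have a1 : ∀ w ∈ D, Zk (x u * k) w := fun w hw =>
    zk_mul.2 (by rw [← C.neg, (C.tr _).1 w (h1 w hw)]; exact h2 w hw)
  have a2 : x u * k ∉ nrm K G := fun h => hk ((mul_mem_cancel_left (C.tr _).mem).1 h)
  have a3 : Zk (x u * k) (x u • v) := zk_mul.2 (by rwa [inv_smul_smul])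
  have ti : τ⁻¹ = τ := inv_eq_of_mul_eq_one_left (C.fx_sq (fx_one hτ))
  refine C.step2 hτ ?_ fun w hw hc => congrArg Prod.fst (h1 _ (C.infW₀ hD h1 a1 a2 hw hc))
  by_contra h
  have := h1 _ (hD.max (x u * k) (τ * (x u * k)) a1 (fun w hw => zk_mul.2 (by
    rw [ti, (fx_one hτ).z ((zk_nrm (one_mem _)).2 (h1 w hw))]; exact a1 w hw))
    (by rwa [← mul_assoc]) _ a3 (zk_mul.2 (by
      convert a3 using 1
      rw [ti, hτ, C.act]; simp [hu, h4])))
  exact h4 (by simpa [C.act] using congrArg Prod.snd this)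

theorem step1' (hD : Mx G D) {h k : G} (h1 : ∀ v ∈ D, Zk h v) (h2 : ∀ v ∈ D, Zk k v)
    (hk : h⁻¹ * k ∉ nrm K G) : ∃ σ, Fx K σ h ∧ Fx K σ k := by
  obtain ⟨u, hu, -⟩ := C.step1 hτ (hD.comap h) (fun v hv => by simpa [Zk] using h1 _ hv)
    (k := h⁻¹ * k) (fun v hv => zk_mul.2 (by rw [inv_inv]; exact h2 _ hv)) hk
  refine ⟨h * (x u)⁻¹ * τ * (h * (x u)⁻¹)⁻¹, ?_, ?_⟩
  · simpa using ((fx_one hτ).mul_nrm (C.tr u).mem).conj (h * (x u)⁻¹)
  · simpa [mul_assoc] using hu.conj (h * (x u)⁻¹)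

end Cub

end Cfsg.Lib.Sp4F
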