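import Cfsg.Agent.Lib.Sp4F.Cub2

/-! # Cubic action together with a torus: conclusion -/

set_option autoImplicit false
set_option linter.unusedSectionVars false

namespace Cfsg.Lib.Sp4F

open Subgroup

variable {K G : Type*} [Field K] [Finite K] [Group G] [Finite G]
  [DistribMulAction G (K × K × K)] {p : ℕ} [hp : Fact p.Prime] [CharP K p]

theorem exists_mx {n : K} (hn : n ≠ 0) (h : ∀ g : G, (g • ((n, 0, 0) : K × K × K)).2 = 0)
    {k : G} (hk : k ∉ nrm K G) : ∃ (D : AddSubgroup (K × K × K)) (k : G), Mx G D ∧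
      (∀ v ∈ D, v.2 = 0) ∧ (∀ v ∈ D, Zk k v) ∧ k ∉ nrm K G := by
  obtain ⟨k₀, h1, h2⟩ := Set.exists_max_image {k : G | k ∉ nrm K G}
    (fun k => {v : K × K × K | v.2 = 0 ∧ Zk k v}.ncard) (Set.toFinite _) ⟨k, hk⟩
  let D : AddSubgroup (K × K × K) :=
    { carrier := {v | v.2 = 0 ∧ Zk k₀ v}
      add_mem' := fun {u v} hu hv => ⟨by simp [hu.1, hv.1], hu.2.add hv.2⟩
      zero_mem' := ⟨rfl, by simp [Zk]⟩
      neg_mem' := fun {v} hv => ⟨by simp [hv.1], by
        simpa using (show Zk k₀ (0 : K × K × K) by simp [Zk]).sub hv.2⟩ }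
  refine ⟨D, k₀, ⟨⟨(n, 0, 0), ⟨rfl, h _⟩, by simp [hn]⟩, fun a b ha hb hab v h3 h4 => ?_⟩,
    fun v hv => hv.1, fun v hv => hv.2, h1⟩
  have h5 : (D : Set (K × K × K)) = {v | Zk a v ∧ Zk b v} := by
    refine Set.eq_of_subset_of_ncard_le (fun v hv => ⟨ha v hv, hb v hv⟩) (le_trans ?_ (h2 _ hab))
    refine Set.ncard_le_ncard_of_injOn (a⁻¹ • ·) (fun v hv => ⟨hv.1, zk_mul.2 ?_⟩)
      (MulAction.injective _).injOn
    rw [inv_inv, smul_inv_smul]; exact hv.2
  show v ∈ (D : Set (K × K × K))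
  rw [h5]; exact ⟨h3, h4⟩

namespace Cub

variable {x : K → G} {S : Sylow p G} (C : Cub K x S) {D : AddSubgroup (K × K × K)} {τ : G}
include C

theorem exists_delta (hτ : ∀ v : K × K × K, τ • v = (v.1, -v.2.1, v.2.2)) (hD : Mx G D)
    (h1 : ∀ v ∈ D, v.2 = 0) {k : G} (h2 : ∀ v ∈ D, Zk k v) (hk : k ∉ nrm K G) (hf : Fx K τ k) :
    ∃ δ : G → K × K × K, (∀ i, (∀ v ∈ D, Zk i v) → Fx K τ i → δ i ∈ D ∧ δ i ≠ 0) ∧
      ∀ i j, (∀ v ∈ D, Zk i v) → Fx K τ i → (∀ v ∈ D, Zk j v) → Fx K τ j → δ i = δ j →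
        j⁻¹ * i ∈ nrm K G := by
  have two := C.two
  obtain ⟨n, hn, n0⟩ := hD.ne
  have n1 := h1 n hn
  have n2 : n.1 ≠ 0 := fun h => n0 (Prod.ext h n1)
  set y : K × K × K := (0, 1, 0) with hy
  have ty : τ • y = -y := by simp [hτ, hy]
  have w : ∀ i, Fx K τ i → Wk i y ∧ ¬ Zk i y := fun i hi => ⟨by
    convert hi.w' (0, -1 / 2, 0) using 1
    rw [hτ, hy]; ext <;> simp
    field_simp; ring, fun h => by
    have := congrArg (·.2.1) (hi.z h)
    simp only [hτ, hy] at this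
    exact two (by linear_combination -this)⟩
  set k₁ := x (n.1 / 2) * k with hk₁
  have e : (x (n.1 / 2))⁻¹ • y = y - n := by
    rw [← C.neg, C.act, hy]
    ext
    · simp; field_simp
    · simp [n1]
    · simp [n1]
  have a1 : ∀ w ∈ D, Zk k₁ w := fun w hw =>
    zk_mul.2 (by rw [← C.neg, (C.tr _).1 w (h1 w hw)]; exact h2 w hw)
  have a2 : Wk k₁ y := wk_mul.2 (e ▸ (w k hf).1.sub (h2 n hn).wk)
  have a3 : ¬ Zk k₁ y := fun h => (w k hf).2 (by
    simpa using (e ▸ zk_mul.1 h : Zk k (y - n)).add (h2 n hn))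
  have a4 : ¬ Fx K τ k₁ := fun h => by
    have := C.fx_two h (hf.conj (x (n.1 / 2))) (fx_one hτ) (by
      simpa using ((fx_one hτ).mul_nrm (C.tr (-(n.1 / 2))).mem).conj (x (n.1 / 2)) |> fun h => by
        rwa [one_mul, ← C.add, add_neg_cancel, C.zero] at h)
      (by simpa [hk₁, mul_mem_cancel_left (C.tr (n.1 / 2)).mem] using hk)
    have h3 := congrArg (fun g : G => (g • y).1) this
    simp only [mul_smul, e] at h3
    simp only [hτ, C.act, hy] at h3
    simp [n1] at h3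
    exact n2 (by
      have : 2 * n.1 = 0 := by field_simp at h3; linear_combination h3
      simpa [two] using this)
  have key : ∀ i, ∃ σ, (∀ v ∈ D, Zk i v) → Fx K τ i → Fx K σ k₁ ∧ Fx K σ i := fun i => by
    by_cases h : (∀ v ∈ D, Zk i v) ∧ Fx K τ i
    · obtain ⟨σ, hσ⟩ := C.step1' hτ hD a1 h.1 fun h3 => a4 (by
        simpa using h.2.mul_nrm (inv_mem h3))
      exact ⟨σ, fun _ _ => hσ⟩
    · exact ⟨1, fun h3 h4 => absurd ⟨h3, h4⟩ h⟩
  choose σ hσ using key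
  refine ⟨fun i => σ i • y + y, fun i h3 h4 => ⟨hD.max k₁ i a1 h3 (fun h5 => a4 (by
    simpa using h4.mul_nrm (inv_mem h5))) _ ((hσ i h3 h4).1.w a2) ((hσ i h3 h4).2.w (w i h4).1),
    fun h5 => a4 ?_⟩, fun i j h3 h4 h5 h6 h7 => ?_⟩
  · rw [← C.fx_eq (hσ i h3 h4).2 h4 (w i h4).2 (by rw [ty, eq_neg_iff_add_eq_zero]; exact h5)]
    exact (hσ i h3 h4).1
  · by_contra h8
    have h9 := C.fx_eq (hσ i h3 h4).1 (hσ j h5 h6).1 a3 (add_right_cancel h7)
    refine a4 ?_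
    rw [← C.fx_two (hσ i h3 h4).2 h4 (h9 ▸ (hσ j h5 h6).2) h6 h8]
    exact (hσ i h3 h4).1

theorem exists_torus (h : ∀ l : K, l ≠ 0 → ∃ g : G, Tr l g) :
    ∃ T : Kˣ →* G, (∀ l : Kˣ, Tr (l : K) (T l)) ∧
      ∀ v : K × K × K, T (-1) • v = (v.1, -v.2.1, v.2.2) := by
  have two := C.two
  obtain ⟨γ, hγ⟩ := IsCyclic.exists_generator (α := Kˣ)
  obtain ⟨g, hg⟩ := h γ γ.ne_zero
  have := Fintype.ofFinite K
  obtain ⟨n, -, hn⟩ := FiniteField.card K p
  have h1 := hg.pow (Fintype.card K)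
  rw [FiniteField.pow_card] at h1
  have h2 : orderOf (g ^ Fintype.card K) ∣ orderOf γ := by
    obtain ⟨t, ht⟩ := C.of_tr (by
      simpa [← Units.val_pow_eq_pow_val, pow_orderOf_eq_one] using hg.pow (orderOf γ) :
      Tr (1 : K) (g ^ orderOf γ))
    obtain ⟨m, hm⟩ : p ∣ Fintype.card K := hn ▸ dvd_pow_self p n.ne_zero
    refine orderOf_dvd_of_pow_eq_one ?_
    rw [← pow_mul, mul_comm, pow_mul, ht, hm, pow_mul, C.pow_p, one_pow]
  let T := monoidHomOfForallMemZpowers hγ h2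
  have hT : ∀ l : Kˣ, Tr (l : K) (T l) := fun l => by
    obtain ⟨i, rfl⟩ := (mem_powers_iff_mem_zpowers.2 (hγ l))
    simp only [map_pow, T, monoidHomOfForallMemZpowers_apply_gen, Units.val_pow_eq_pow_val]
    exact h1.pow i
  have h3 : Tr (-1 : K) (T (-1)) := hT (-1)
  have h4 : T (-1) * T (-1) = 1 := by rw [← map_mul]; simp
  generalize hτ : T (-1) = τ at h3 h4
  have d : ∀ a b c : K, τ • ((a, b, c) : K × K × K) = (a + (τ • ((0, b, 0) : K × K × K)).1 +
      (τ • ((0, 0, c) : K × K × K)).1, -b + (τ • ((0, 0, c) : K × K × K)).2.1, c) :=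
    fun a b c => by
      rw [show ((a, b, c) : K × K × K) = (a, 0, 0) + (0, b, 0) + (0, 0, c) by simp, smul_add,
        smul_add, h3.1 _ rfl]
      ext <;> simp [h3.2.1, h3.2.2]
  have r : ∀ t c : K, (τ • ((0, t * c, 0) : K × K × K)).1 =
      -2 * t * (τ • ((0, 0, c) : K × K × K)).2.1 := fun t c => by
    obtain ⟨s, hs⟩ := C.conj h3.mem t
    have e : ∀ c : K, τ • x t • ((0, 0, c) : K × K × K) = x s • τ • (0, 0, c) := fun c => by
      rw [← hs, mul_smul, mul_smul, inv_smul_smul]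
    have e1 := congrArg (·.2.1) (e 1)
    have e2 := congrArg (·.1) (e c)
    simp only [C.act, zero_add, mul_zero, h3.2.2] at e1 e2
    rw [d] at e1 e2
    obtain rfl : s = -t := by linear_combination -e1
    linear_combination e2
  set κ := (τ • ((0, 0, 1) : K × K × K)).2.1 with hκ
  have r1 : ∀ b : K, (τ • ((0, b, 0) : K × K × K)).1 = -2 * b * κ := fun b => by
    simpa using r b 1
  have r2 : ∀ c : K, (τ • ((0, 0, c) : K × K × K)).2.1 = κ * c := fun c =>
    mul_left_cancel₀ two (by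
      have := r 1 c
      rw [r1] at this
      linear_combination this)
  have r3 : ∀ c : K, (τ • ((0, 0, c) : K × K × K)).1 = κ ^ 2 * c := fun c =>
    mul_left_cancel₀ two (by
      have := congrArg (fun g : G => (g • ((0, 0, c) : K × K × K)).1) h4
      simp only [mul_smul, one_smul] at this
      rw [d 0 0 c, d, r1, r1, r2] at this
      linear_combination this)
  refine ⟨(MulAut.conj (x (-(κ / 2)))).toMonoidHom.comp T, fun l => ?_, fun v => ?_⟩
  · have := ((C.tr (-(κ / 2))).mul (hT l)).mul (C.tr (κ / 2))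
    rw [one_mul, mul_one] at this
    simpa [C.neg] using this
  · show (x (-(κ / 2)) * T (-1) * (x (-(κ / 2)))⁻¹) • v = _
    rw [hτ, ← C.neg, mul_smul, mul_smul, C.act, C.act, d, r1, r2, r3]
    ext
    · simp only; field_simp; ring
    · simp only; field_simp; ring
    · rfl

theorem main (h : ∀ l : K, l ≠ 0 → ∃ g : G, Tr l g) {n₀ : K} (hn₀ : n₀ ≠ 0)
    (hn₁ : ∀ g : G, (g • ((n₀, 0, 0) : K × K × K)).2 = 0) (k₀ : G) : k₀ ∈ nrm K G := by
  classical
  by_contra hk₀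
  have two := C.two
  obtain ⟨T, hT, hτ⟩ := C.exists_torus h
  obtain ⟨D, k', hD, h1, h2', hk'⟩ := exists_mx hn₀ hn₁ hk₀
  obtain ⟨u, hf, hW⟩ := C.step1 hτ hD h1 h2' hk'
  have h2 : ∀ w ∈ D, Zk (x u * k') w := fun w hw =>
    zk_mul.2 (by rw [← C.neg, (C.tr _).1 w (h1 w hw)]; exact h2' w hw)
  have hk : x u * k' ∉ nrm K G := fun h => hk' ((mul_mem_cancel_left (C.tr _).mem).1 h)
  generalize x u * k' = k at hf hW h2 hk
  obtain ⟨δ, d1, d2⟩ := C.exists_delta hτ hD h1 h2 hk hf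
  obtain ⟨δ₀, hδ₀⟩ := C.cyc hD h1 h2 hk (y := (0, 1, 0)) rfl (hW 1) fun h => by simpa using h1 _ h
  have cm : ∀ (l m : Kˣ) (v : K × K × K), T l • T m • v = T m • T l • v := fun l m v => by
    rw [← mul_smul, ← map_mul, mul_comm, map_mul, mul_smul]
  have o1 : ∀ l, ∀ v ∈ D, Zk (T l * k) v := fun l v hv => zk_mul.2 (by
    rw [← map_inv, (hT _).1 v (h1 v hv)]; exact h2 v hv)
  have o2 : ∀ l, Fx K (T (-1)) (T l * k) := fun l => by
    have := hf.conj (T l)
    rwa [← map_mul, mul_comm l, map_mul, mul_inv_cancel_right] at this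
  have o3 : ∀ v ∈ D, Zk (1 : G) v := fun v hv => (zk_nrm (one_mem _)).2 (h1 v hv)
  let E := (((Finset.range p).image fun m : ℕ => m • δ₀).erase 0).erase (δ 1)
  have mE : ∀ v ∈ D, v ∈ (Finset.range p).image fun m : ℕ => m • δ₀ := fun v hv => by
    obtain ⟨m, rfl⟩ := hδ₀ v hv
    have p0 : (0 : ℤ) < p := by exact_mod_cast hp.out.pos
    refine Finset.mem_image.2 ⟨(m % p).toNat, Finset.mem_range.2 ?_, ?_⟩
    · have := Int.emod_lt_of_pos m p0
      have := Int.emod_nonneg m p0.ne'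
      omega
    · rw [← natCast_zsmul, Int.toNat_of_nonneg (Int.emod_nonneg m p0.ne')]
      conv_rhs => rw [← Int.emod_add_mul_ediv m p, add_zsmul, mul_zsmul, natCast_zsmul, p_smul,
        add_zero]
  have cE : E.card ≤ p - 2 := by
    rw [Finset.card_erase_of_mem (Finset.mem_erase.2 ⟨(d1 1 o3 (fx_one hτ)).2,
      mE _ (d1 1 o3 (fx_one hτ)).1⟩), Finset.card_erase_of_mem (mE 0 D.zero_mem)]
    have := (Finset.card_image_le (s := Finset.range p) (f := fun m : ℕ => m • δ₀)).trans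
      (Finset.card_range p).le
    omega
  have tE : ∀ l, δ (T l * k) ∈ E := fun l => Finset.mem_erase.2 ⟨fun e => hk (by
    simpa [mul_mem_cancel_left (hT l).mem] using d2 _ _ (o1 l) (o2 l) o3 (fx_one hτ) e),
    Finset.mem_erase.2 ⟨(d1 _ (o1 l) (o2 l)).2, mE _ (d1 _ (o1 l) (o2 l)).1⟩⟩
  have eqv : ∀ l m, δ (T l * k) = δ (T m * k) → k⁻¹ * T (m⁻¹ * l) * k ∈ nrm K G := fun l m e => by
    simpa [mul_assoc] using d2 _ _ (o1 l) (o2 l) (o1 m) (o2 m) e
  obtain ⟨z, z1, z2⟩ := C.exists_c hτ hD h1 h2 hk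
  obtain ⟨n, hn, n0⟩ := hD.ne
  have n3 : (k⁻¹ • n).1 ≠ 0 := fun h => n0 (by
    rw [← smul_inv_smul k n, show k⁻¹ • n = 0 from Prod.ext h (h2 n hn), smul_zero])
  by_cases p3 : p = 3
  · have all : ∀ l, k⁻¹ * T l * k ∈ nrm K G := fun l => by
      simpa using eqv l 1 (Finset.card_le_one.1 (by omega) _ (tE l) _ (tE 1))
    have sq : ∀ u : K, ∃ v, Zk k v ∧ v.2.2 = u ^ 2 * z.2.2 := fun u => by
      by_cases hu : u = 0
      · exact ⟨0, by simp [Zk], by simp [hu]⟩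
      · exact ⟨_, z1.conj (all (Units.mk0 u hu)), (hT _).2.2 z⟩
    refine n3 (ker_of_surj (((AddMonoidHom.snd K K).comp (AddMonoidHom.snd K _)).comp
      ((DistribSMul.toAddMonoidHom _ k).comp (AddMonoidHom.inl K _))) (fun c => ?_) _ ?_)
    · obtain ⟨v, v1, v2⟩ := sq ((c / z.2.2 + 1) / 2)
      obtain ⟨w, w1, w2⟩ := sq ((c / z.2.2 - 1) / 2)
      refine ⟨(k⁻¹ • (v - w)).1, ?_⟩
      show (k • (((k⁻¹ • (v - w)).1, 0) : K × K × K)).2.2 = c
      rw [← show (k⁻¹ • (v - w)).2 = 0 from v1.sub w1, Prod.mk.eta, smul_inv_smul, Prod.snd_sub,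
        Prod.snd_sub, v2, w2]
      field_simp; ring
    · show (k • (((k⁻¹ • n).1, 0) : K × K × K)).2.2 = 0
      rw [← show (k⁻¹ • n).2 = 0 from h2 n hn, Prod.mk.eta, smul_inv_smul, h1 n hn]; rfl
  have := Fintype.ofFinite K
  have hq : p ^ 2 ≤ Fintype.card K := by
    obtain ⟨e, -, he⟩ := FiniteField.card K p
    rw [he]
    refine Nat.pow_le_pow_right hp.out.pos (Nat.succ_le_of_lt (lt_of_le_of_ne e.pos fun e1 => ?_))
    rw [← e1, pow_one] at he
    refine C.zne hτ hk fun v hv => h2 v ?_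
    obtain ⟨m, hm⟩ := (Fintype.bijective_iff_injective_and_card (ZMod.castHom (dvd_refl p) K)).2
      ⟨RingHom.injective _, by rw [ZMod.card, he]⟩ |>.2 (v.1 / n.1)
    have n2 : n.1 ≠ 0 := fun h => n0 (Prod.ext h (h1 n hn))
    convert D.nsmul_mem hn m.val using 1
    refine Prod.ext ?_ (by simp [hv, h1 n hn])
    rw [ZMod.castHom_apply, ZMod.cast_eq_val, eq_div_iff n2] at hm
    simp [← hm]
  obtain ⟨l, l1, l2⟩ : ∃ l : Kˣ, (l : K) ^ 2 ≠ 1 ∧ k⁻¹ * T l * k ∈ nrm K G := by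
    obtain ⟨w, -, hw⟩ := Finset.exists_lt_card_fiber_of_mul_lt_card_of_maps_to
      (s := (Finset.univ : Finset Kˣ)) (t := E) (f := fun l => δ (T l * k)) (n := 2)
      (fun l _ => tE l) (by
        rw [Finset.card_univ, Fintype.card_units]
        have := hp.out.two_le
        have : p ^ 2 = p * p := sq p
        have : 2 * p ≤ p * p := Nat.mul_le_mul_right p ‹_›
        omega)
    obtain ⟨a, b, c, ha, hb, hc, ab, ac, bc⟩ := Finset.two_lt_card_iff.1 hw
    simp only [Finset.mem_filter] at ha hb hc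
    by_contra! H
    have s1 : ∀ b : Kˣ, a ≠ b → δ (T b * k) = w → (b : K) = -a := fun b ab hb => by
      have := not_imp_not.1 (H (a⁻¹ * b)) (eqv _ _ (hb.trans ha.2.symm))
      rcases sq_eq_one_iff.1 this with h | h
      · exact absurd (inv_mul_eq_one.1 (Units.ext h)) ab
      · rw [Units.val_mul, Units.inv_mul_eq_iff_eq_mul] at h
        rw [h]; ring
    exact bc (Units.ext ((s1 b ab hb.2).trans (s1 c ac hc.2).symm))
  have three : (3 : K) ≠ 0 := fun h => p3 ((Nat.prime_dvd_prime_iff_eq hp.out Nat.prime_three).1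
    ((CharP.cast_eq_zero_iff K p 3).1 (by exact_mod_cast h)))
  set μ : Kˣ := Units.mk0 2 two with hμ
  have hμ' : (μ : K) = 2 := rfl
  have fb : ∀ v : K × K × K, T (-1) • v = v → v.2.1 = 0 := fun v hv => by
    have := congrArg (·.2.1) hv
    simp only [hτ] at this
    exact (mul_eq_zero.1 (by linear_combination -this : 2 * v.2.1 = 0)).resolve_left two
  have m1 : k⁻¹ * T μ * k ∈ nrm K G := by
    have u1 : T l • (T μ • z - 4 • z) = T μ • z - 4 • z := (hT l).1 _ (Prod.ext (by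
      simp [fb _ (hf.z z1), fb (T μ • z) (by rw [cm, hf.z z1])]) (by
      simp [(hT μ).2.2, hμ']; ring))
    have u2 : T μ • (T l • z - z) = 4 • (T l • z - z) := by
      rw [smul_sub, smul_comm (T l) 4 z, cm l μ] at u1
      rw [smul_sub, smul_sub, sub_eq_sub_iff_sub_eq_sub, u1]
    have u3 : Zk k (T l • z - z) := (z1.conj l2).sub z1
    by_contra h3
    have := h1 _ (hD.max k (T μ * k) h2 (o1 μ) (by rwa [← mul_assoc]) (T μ • (T l • z - z))
      (by rw [u2, show 4 • (T l • z - z) = (T l • z - z) + (T l • z - z) + (T l • z - z) +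
        (T l • z - z) by abel]; exact ((u3.add u3).add u3).add u3)
      (zk_mul.2 (by rwa [inv_smul_smul])))
    have h4 := congrArg Prod.snd this
    rw [(hT μ).2.2, Prod.snd_sub, Prod.snd_sub, (hT l).2.2, hμ', ← sub_one_mul] at h4
    simp [two, z2, sub_eq_zero, l1] at h4
  have ex : ∀ (t b : K), (k * x t * k⁻¹) • ((0, b, 0) : K × K × K) =
      (0, b, 0) + k • (2 * t * (k⁻¹ • ((0, b, 0) : K × K × K)).2.1, 0, 0) := fun t b => by
    have hv := hW b
    rw [Wk] at hv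
    rw [mul_smul, mul_smul, C.act]
    conv_rhs => rw [← smul_inv_smul k (0, b, 0), ← smul_add]
    congr 1
    ext <;> simp [hv]
  have ty : ∀ b : K, T μ • ((0, b, 0) : K × K × K) = (0, b, 0) + (0, b, 0) := fun b => by
    have e1 := congrArg Prod.fst (cm (-1) μ (0, b, 0))
    rw [hτ, hτ, show ((((0, b, 0) : K × K × K).1, -((0, b, 0) : K × K × K).2.1,
      ((0, b, 0) : K × K × K).2.2) : K × K × K) = -(0, b, 0) by simp, smul_neg] at e1
    refine Prod.ext ?_ (by simp [(hT μ).2.1, hμ', two_mul])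
    simp only [Prod.fst_neg] at e1
    simpa using (mul_eq_zero.1 (by linear_combination e1 :
      2 * (T μ • ((0, b, 0) : K × K × K)).1 = 0)).resolve_left two
  let β : K →+ K := ((AddMonoidHom.fst K K).comp (AddMonoidHom.snd K _)).comp
    ((DistribSMul.toAddMonoidHom _ k⁻¹).comp ((AddMonoidHom.inr K _).comp (AddMonoidHom.inl K K)))
  have hβ : ∀ b, (k⁻¹ • ((0, b, 0) : K × K × K)).2.1 = β b := fun _ => rfl
  have β0 : ∀ b, β b = 0 → b = 0 := fun b hb => fb _ (hf.z (Prod.ext hb (hW b)))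
  have β1 : β 1 ≠ 0 := fun h => one_ne_zero (β0 1 h)
  set t₁ := (k⁻¹ • n).1 / (2 * β 1) with ht₁
  obtain ⟨t₂, ht₂⟩ := C.conj m1 t₁
  have e1 : T μ * (k * x t₁ * k⁻¹) = k * x t₂ * k⁻¹ * T μ := by rw [← ht₂]; group
  have e2 : ∀ b : K, T μ • k • ((2 * t₁ * β b, 0, 0) : K × K × K) = k • (4 * t₂ * β b, 0, 0) :=
    fun b => by
      have := congrArg (· • ((0, b, 0) : K × K × K)) e1
      simp only [mul_smul (T μ), mul_smul _ (T μ), ex, ty, smul_add, hβ] at this
      rw [add_add_add_comm, add_right_inj, ← smul_add] at this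
      rw [this]; congr 1; ext <;> simp; ring
  have e3 : ((2 * t₁ * β 1, 0, 0) : K × K × K) = k⁻¹ • n :=
    Prod.ext (by simp only [ht₁]; field_simp) (h2 n hn).symm
  have e4 : 4 * t₂ = 2 * t₁ := by
    have := e2 1
    rw [e3, smul_inv_smul, (hT μ).1 n (h1 n hn), ← inv_smul_eq_iff, ← e3] at this
    exact mul_right_cancel₀ β1 (congrArg Prod.fst this).symm
  have t0 : 2 * t₁ ≠ 0 := by simp [ht₁, *]
  refine C.zne hτ (k := k⁻¹) (by simpa using hk) fun v hv => ?_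
  obtain ⟨b, hb⟩ := surj_of_ker β β0 (v.1 / (2 * t₁))
  have e5 := e2 b
  rw [e4, hb, mul_div_cancel₀ _ t0, show ((v.1, 0, 0) : K × K × K) = v from
    Prod.ext rfl hv.symm] at e5
  rw [Zk, inv_inv]
  refine h1 _ (C.infW₀ hD h1 h2 hk (by rwa [Zk, inv_smul_smul]) ?_)
  have := (hT μ).2.2 (k • v)
  rw [e5, hμ'] at this
  exact (mul_eq_zero.1 (by linear_combination -this : 3 * (k • v).2.2 = 0)).resolve_left three

end Cub

end Cfsg.Lib.Sp4F
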