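import Cfsg.Agent.Lib.Sp4F.Lin
import Cfsg.Agent.Lib.Transfer.SylowIn

/-! # Quadratic action on `K × K × K` in characteristic two -/

set_option autoImplicit false
set_option linter.unusedSectionVars false

namespace Cfsg.Lib.Sp4F

open Subgroup Cfsg.Lib.Transfer

variable {K G : Type*} [Field K] [Finite K] [Group G] [Finite G]
  [DistribMulAction G (K × K × K)] [CharP K 2]

/-- The hypotheses. -/
structure Qd (κ : K → K → K) (x : K → G) (S : Sylow 2 G) : Prop where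
  fa : ∀ g : G, (∀ v : K × K × K, g • v = v) → g = 1
  act : ∀ t (v : K × K × K), x t • v = (v.1 + κ t v.2.2, v.2.1 + t * v.2.2, v.2.2)
  syl : ∀ g, g ∈ S ↔ ∃ t, g = x t
  add : ∀ s t c, κ (s + t) c = κ s c + κ t c
  zero : ∀ t, κ t 0 = 0
  onto : ∀ a b, a ≠ 0 → b ≠ 0 → ∃ t c, κ t c = a ∧ t * c = b

/-- The element preserves `c = 0`. -/
def Pw (K : Type*) [Field K] [DistribMulAction G (K × K × K)] (g : G) : Prop :=
  ∀ v : K × K × K, v.2.2 = 0 → (g • v).2.2 = 0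

theorem Pw.inv {g : G} (h : Pw K g) : Pw K g⁻¹ := fun v hv =>
  back (P := fun v : K × K × K => v.2.2 = 0) h _ (by rwa [smul_inv_smul])

theorem Pw.mul {g h : G} (hg : Pw K g) (hh : Pw K h) : Pw K (g * h) := fun v hv => by
  rw [mul_smul]; exact hg _ (hh v hv)

theorem add_self3 (v : K × K × K) : v + v = 0 := by ext <;> simp [CharTwo.add_self_eq_zero]

namespace Qd

variable {κ : K → K → K} {x : K → G} {S : Sylow 2 G} (C : Qd κ x S)
include C

theorem zero' (c : K) : κ 0 c = 0 := by simpa using C.add 0 0 c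

theorem fixW (t : K) {v : K × K × K} (h : v.2.2 = 0) : x t • v = v := by
  rw [C.act]; ext <;> simp [h, C.zero]

theorem pw (t : K) : Pw K (x t) := fun v hv => by rw [C.fixW t hv, hv]

theorem x_zero : x 0 = 1 := C.fa _ fun v => by simp [C.act, C.zero']

theorem of_triv {g : G} (h1 : ∀ v : K × K × K, v.2.2 = 0 → g • v = v)
    (h2 : ∀ v : K × K × K, (g • v).2.2 = v.2.2) : ∃ t, g = x t := by
  let L : Subgroup G :=
    { carrier := {g | (∀ v : K × K × K, v.2.2 = 0 → g • v = v) ∧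
        ∀ v : K × K × K, (g • v).2.2 = v.2.2}
      mul_mem' := fun {g h} hg hh => ⟨fun v hv => by rw [mul_smul, hh.1 v hv, hg.1 v hv],
        fun v => by rw [mul_smul, hg.2, hh.2]⟩
      one_mem' := ⟨fun v _ => one_smul _ v, fun v => by rw [one_smul]⟩
      inv_mem' := fun {g} hg => ⟨fun v hv => inv_smul_eq_iff.2 (hg.1 v hv).symm,
        fun v => by rw [← hg.2, smul_inv_smul]⟩ }
  have : IsPGroup 2 L := fun ⟨g, hg⟩ => ⟨1, Subtype.ext (C.fa _ fun v => by
    show g ^ 2 ^ 1 • v = v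
    rw [pow_one, pow_smul_eq (z := g • v - v) (by abel) (hg.1 _ (by
      rw [Prod.snd_sub, Prod.snd_sub, hg.2, sub_self])), two_nsmul, add_self3, add_zero])⟩
  have h := S.3 this fun g hg => by
    obtain ⟨t, rfl⟩ := (C.syl g).1 hg
    exact ⟨fun v => C.fixW t, fun v => by rw [C.act]⟩
  exact (C.syl g).1 (by
    change g ∈ (S : Subgroup G)
    rw [← h]; exact ⟨h1, h2⟩)

theorem conj {k : G} (hk : Pw K k) (t : K) : ∃ s, k * x t * k⁻¹ = x s :=
  C.of_triv (fun v hv => by rw [mul_smul, mul_smul, C.fixW t (hk.inv v hv), smul_inv_smul])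
    fun v => by
      have := hk (x t • k⁻¹ • v - k⁻¹ • v) (by simp [C.act])
      rwa [smul_sub, smul_inv_smul, Prod.snd_sub, Prod.snd_sub, sub_eq_zero, ← mul_smul,
        ← mul_smul] at this

theorem fix_of_move {g : G} {t : K} {v : K × K × K} (hv : (g⁻¹ • v).2.2 = 0)
    (h : (g⁻¹ • (x t • v - v)).2.2 = 0) : x t • v = v := by
  let N : Subgroup G :=
    { carrier := {h | (∀ d : K × K × K, d.2.2 = 0 → (g⁻¹ • d).2.2 = 0 → h • d = d) ∧
        (h • v - v).2.2 = 0 ∧ (g⁻¹ • (h • v - v)).2.2 = 0}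
      mul_mem' := fun {a b} ha hb => by
        have e : (a * b) • v - v = (a • v - v) + (b • v - v) := by
          rw [← ha.1 _ hb.2.1 hb.2.2, mul_smul, smul_sub]; abel
        exact ⟨fun d h1 h2 => by rw [mul_smul, hb.1 d h1 h2, ha.1 d h1 h2], by
          rw [e, Prod.snd_add, Prod.snd_add, ha.2.1, hb.2.1, add_zero], by
          rw [e, smul_add, Prod.snd_add, Prod.snd_add, ha.2.2, hb.2.2, add_zero]⟩
      one_mem' := ⟨fun d _ _ => one_smul _ d, by simp, by simp⟩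
      inv_mem' := fun {a} ha => by
        have e : a⁻¹ • v - v = -(a • v - v) := by
          rw [← inv_smul_eq_iff.2 (ha.1 _ ha.2.1 ha.2.2).symm, smul_sub, inv_smul_smul]; abel
        exact ⟨fun d h1 h2 => inv_smul_eq_iff.2 (ha.1 d h1 h2).symm, by
          rw [e, Prod.snd_neg, Prod.snd_neg, ha.2.1, neg_zero], by
          rw [e, smul_neg, Prod.snd_neg, Prod.snd_neg, ha.2.2, neg_zero]⟩ }
  have key : ∀ a ∈ ((g • S : Sylow 2 G) : Subgroup G), ∀ d : K × K × K, (g⁻¹ • d).2.2 = 0 →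
      a • d = d := fun a ha d hd => by
    rw [coe_smul_sylow, mem_conj] at ha
    obtain ⟨s, hs⟩ := (C.syl _).1 ha
    have := C.fixW s hd
    rwa [← hs, mul_smul, smul_inv_smul, mul_smul, smul_left_cancel_iff] at this
  have h1 : ((g • S : Sylow 2 G) : Subgroup G) ≤ N := fun a ha =>
    ⟨fun d _ => key a ha d, by simp [key a ha v hv], by simp [key a ha v hv]⟩
  obtain ⟨n, hn, h2⟩ := exists_conj_le_of_not_dvd_relIndex' (sylow_not_dvd_relIndex _ h1)
    (S.2.to_le (zpowers_le.2 ((C.syl _).2 ⟨t, rfl⟩))) (zpowers_le.2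
      (show x t ∈ N from ⟨fun d hd _ => C.fixW t hd, by simp [C.act], h⟩))
  have h3 := key _ (conj_le_iff.1 h2 _ (mem_zpowers _)) v hv
  rw [mul_smul, mul_smul, smul_eq_iff_eq_inv_smul] at h3
  have h4 := C.fixW t (inv_mem hn).2.1
  rwa [smul_sub, h3, sub_right_inj] at h4

theorem inter {g : G} (hg : ¬ Pw K g) :
    (∀ v : K × K × K, v.2.2 = 0 → (g⁻¹ • v).2.2 = 0 → v.1 = 0 ∨ v.2.1 = 0) ∧
    ∀ f : K × K × K →+ K, (∀ v : K × K × K, v.2.2 = 0 → (g⁻¹ • v).2.2 = 0 → f v = 0 → v = 0) →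
      ∀ a, ∃ v : K × K × K, v.2.2 = 0 ∧ (g⁻¹ • v).2.2 = 0 ∧ f v = a := by
  let j : K × K →+ K × K × K := (DistribSMul.toAddMonoidHom _ g).comp
    (AddMonoidHom.mk' (fun z : K × K => ((z.1, z.2, 0) : K × K × K)) fun _ _ => by simp)
  have hj : ∀ z, j z = g • ((z.1, z.2, 0) : K × K × K) := fun _ => rfl
  let ψ : K × K →+ K := ((AddMonoidHom.snd K K).comp (AddMonoidHom.snd K _)).comp j
  have hψ : ∀ z, ψ z = (j z).2.2 := fun _ => rfl
  have j0 : ∀ z, (g⁻¹ • j z).2.2 = 0 := fun z => by rw [hj, inv_smul_smul]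
  have ji : ∀ z, j z = 0 → z = 0 := fun z hz => by
    rw [hj, smul_eq_iff_eq_inv_smul, smul_zero, Prod.ext_iff, Prod.ext_iff] at hz
    exact Prod.ext hz.1 hz.2.1
  have nc : ∀ z t, (g⁻¹ • ((κ t (ψ z), t * ψ z, 0) : K × K × K)).2.2 = 0 → t * ψ z = 0 :=
    fun z t h => by
      have := congrArg (·.2.1) (C.fix_of_move (t := t) (j0 z) (by
        convert h using 4; rw [C.act]; ext <;> simp [hψ]))
      simpa [C.act, hψ] using this
  have inj : ∀ f : K × K × K →+ K, (∀ v : K × K × K, v.2.2 = 0 → (g⁻¹ • v).2.2 = 0 →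
      f v = 0 → v = 0) → Function.Injective fun z : ψ.ker => f (j z) := fun f hf a b hab =>
    Subtype.ext (sub_eq_zero.1 (ji _ (hf _ (sub_mem a.2 b.2 : _ ∈ ψ.ker) (j0 _) (by
      rw [map_sub, map_sub, sub_eq_zero]; exact hab))))
  obtain ⟨z, hz⟩ : ∃ z, ψ z ≠ 0 := by
    by_contra! h
    exact hg fun v hv => by
      have := h (v.1, v.2.1)
      rwa [hψ, hj, show ((v.1, v.2.1, 0) : K × K × K) = v from Prod.ext rfl (Prod.ext rfl hv.symm)]
        at this
  have c1 : Nat.card ψ.ker ≤ Nat.card K := Nat.card_le_card_of_injective _ (inj (AddMonoidHom.mk'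
    (fun v : K × K × K => v.1 + κ (v.2.1 / ψ z) (ψ z)) fun u v => by
      simp only [Prod.fst_add, Prod.snd_add, add_div, C.add]; ring) fun v h1 h2 h3 => by
    have e : v = (κ (v.2.1 / ψ z) (ψ z), v.2.1 / ψ z * ψ z, 0) :=
      Prod.ext (CharTwo.add_eq_zero.1 h3) (Prod.ext (by simp [hz]) h1)
    have h4 := nc z _ (e ▸ h2)
    rw [div_mul_cancel₀ _ hz] at h4
    rw [e, h4]; simp [C.zero'])
  have c2 : Nat.card ψ.range ≤ Nat.card K := Nat.card_le_card_of_injective _ Subtype.val_injective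
  have c3 : Nat.card ψ.ker * Nat.card ψ.range = Nat.card K * Nat.card K := by
    rw [← AddSubgroup.index_ker, AddSubgroup.card_mul_index, Nat.card_prod]
  have p0 : 0 < Nat.card K := Nat.card_pos
  have c4 : Nat.card ψ.ker = Nat.card K := by nlinarith
  have c5 : Nat.card ψ.range = Nat.card K := by nlinarith
  have sj := AddMonoidHom.range_eq_top.1 (AddSubgroup.eq_top_of_card_eq _ c5)
  refine ⟨fun v h1 h2 => ?_, fun f hf a => ?_⟩
  · by_contra! h
    obtain ⟨t, c, e1, e2⟩ := C.onto _ _ h.1 h.2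
    obtain ⟨z, rfl⟩ := sj c
    exact h.2 (e2 ▸ nc z t (by
      rw [e1, e2, show ((v.1, v.2.1, 0) : K × K × K) = v from Prod.ext rfl (Prod.ext rfl h1.symm)]
      exact h2))
  · obtain ⟨z, hz⟩ := ((Nat.bijective_iff_injective_and_card _).2 ⟨inj f hf, c4⟩).2 a
    exact ⟨j z, z.2, j0 z, hz⟩

variable {n : K} (hn : n ≠ 0) (hn' : ∀ g : G, (g • ((n, 0, 0) : K × K × K)).2.2 = 0)
include hn hn'

theorem interZ {g : G} (hg : ¬ Pw K g) {v : K × K × K} (h : v.2.2 = 0) :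
    (g⁻¹ • v).2.2 = 0 ↔ v.2.1 = 0 := by
  have h1 : ∀ v : K × K × K, v.2.2 = 0 → (g⁻¹ • v).2.2 = 0 → v.2.1 = 0 := fun v h1 h2 => by
    by_contra h3
    have h4 := ((C.inter hg).1 v h1 h2).resolve_right h3
    rcases (C.inter hg).1 (v + (n, 0, 0)) (by simp [h1]) (by simp [smul_add, h2, hn']) with h | h
    · exact hn (by simpa [h4] using h)
    · exact h3 (by simpa using h)
  refine ⟨h1 v h, fun h2 => ?_⟩
  obtain ⟨w, w1, w2, w3⟩ := (C.inter hg).2 (AddMonoidHom.fst _ _) (fun v a b c =>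
    Prod.ext c (Prod.ext (h1 v a b) a)) v.1
  rwa [show v = w from Prod.ext w3.symm (Prod.ext (h2.trans (h1 w w1 w2).symm) (h.trans w1.symm))]

theorem stabD {φ : G} (hφ : ¬ Pw K φ) (g : G) (v : K × K × K) (h : v.2 = 0) : (g • v).2 = 0 := by
  have h1 : v.2.1 = 0 := congrArg Prod.fst h
  have h2 : v.2.2 = 0 := congrArg Prod.snd h
  by_cases hg : Pw K g
  · refine Prod.ext ((C.interZ hn hn' (g := g * φ) (fun h => hφ (by simpa using hg.inv.mul h))
      (hg v h2)).1 ?_) (hg v h2)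
    rw [mul_inv_rev, mul_smul, inv_smul_smul]
    exact (C.interZ hn hn' hφ h2).2 h1
  · have h3 := (C.interZ hn hn' (g := g⁻¹) (fun h => hg (by simpa using h.inv)) h2).2 h1
    rw [inv_inv] at h3
    exact Prod.ext ((C.interZ hn hn' hg h3).1 (by rwa [inv_smul_smul])) h3

theorem eq_one {φ : G} (hφ : ¬ Pw K φ) {g : G} (h1 : ∀ v : K × K × K, v.2 = 0 → g • v = v)
    (h2 : ∀ v : K × K × K, (g • v).2 = v.2) : g = 1 := by
  have a1 : ∀ k : G, ∀ v : K × K × K, v.2 = 0 → (k * g * k⁻¹) • v = v := fun k v hv => by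
    rw [mul_smul, mul_smul, h1 _ (C.stabD hn hn' hφ _ v hv), smul_inv_smul]
  have a2 : ∀ k : G, ∀ v : K × K × K, ((k * g * k⁻¹) • v).2 = v.2 := fun k v => by
    have := C.stabD hn hn' hφ k (g • k⁻¹ • v - k⁻¹ • v) (by simp [h2])
    rwa [smul_sub, smul_inv_smul, Prod.snd_sub, sub_eq_zero, ← mul_smul, ← mul_smul] at this
  obtain ⟨k, hk⟩ := exists_conj_le_sylow S (Q := zpowers g) (by
    refine fun ⟨a, ha⟩ => ⟨1, Subtype.ext ?_⟩
    obtain ⟨m, rfl⟩ := mem_zpowers_iff.1 ha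
    show (g ^ m) ^ 2 ^ 1 = 1
    rw [pow_one, ← zpow_natCast, ← zpow_mul, mul_comm, zpow_mul, zpow_natCast, C.fa (g ^ 2)
      fun v => by rw [pow_smul_eq (z := g • v - v) (by abel) (h1 _ (by simp [h2])), two_nsmul,
        add_self3, add_zero], one_zpow])
  obtain ⟨t, ht⟩ := (C.syl _).1 (conj_le_iff.1 hk _ (mem_zpowers g))
  have := congrArg Prod.fst (a2 k (0, 0, 1))
  rw [ht, C.act] at this
  rw [show t = 0 by simpa using this, C.x_zero, conj_eq_one_iff] at ht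
  exact ht

theorem exists_act {φ : G} (hφ : ¬ Pw K φ) : ∃ _ : DistribMulAction G (K × K),
    (∀ (g : G) (v : K × K × K), g • v.2 = (g • v).2) ∧
    (∀ u (v : K × K), x u • v = (v.1 + u * v.2, v.2)) ∧
    (∀ g : G, (∀ b : K, (g • ((b, 0) : K × K)).2 = 0) ∨
      ∀ b : K, (g • ((b, 0) : K × K)).2 = 0 → b = 0) ∧
    ∀ g : G, (∀ b : K, (g • ((b, 0) : K × K)).2 = 0) → Pw K g := by
  have e : ∀ (g : G) (v : K × K × K), (g • ((0, v.2) : K × K × K)).2 = (g • v).2 := fun g v => by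
    conv_rhs => rw [show v = (0, v.2) + (v.1, 0) by simp, smul_add, Prod.snd_add,
      C.stabD hn hn' hφ g (v.1, 0) rfl, add_zero]
  refine ⟨{
    smul := fun g v => (g • ((0, v) : K × K × K)).2
    one_smul := fun v => show ((1 : G) • ((0, v) : K × K × K)).2 = v by rw [one_smul]
    mul_smul := fun g h v => show ((g * h) • ((0, v) : K × K × K)).2 =
      (g • ((0, (h • ((0, v) : K × K × K)).2) : K × K × K)).2 by rw [e, mul_smul]
    smul_zero := fun g => C.stabD hn hn' hφ g _ rfl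
    smul_add := fun g u v => show (g • ((0, u + v) : K × K × K)).2 =
      (g • ((0, u) : K × K × K)).2 + (g • ((0, v) : K × K × K)).2 by
        rw [← Prod.snd_add, ← smul_add]; simp }, e,
    fun u v => show (x u • ((0, v) : K × K × K)).2 = _ by rw [C.act], fun g => ?_, fun g h v hv => ?_⟩
  · by_cases hg : Pw K g
    · exact Or.inl fun b => hg (0, b, 0) rfl
    · exact Or.inr fun b hb => (C.interZ hn hn' (g := g⁻¹) (fun h => hg (by simpa using h.inv))
        (v := (0, b, 0)) rfl).1 (by rwa [inv_inv])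
  · rw [← e, show v.2 = (v.2.1, 0) from Prod.ext rfl hv]
    exact h v.2.1

theorem torus {φ : G} (hφ : ¬ Pw K φ) {t : K} (ht : t ≠ 0) :
    ∃ h : G, (∀ v : K × K × K, v.2 = 0 → h • v = v) ∧
      (∀ v : K × K × K, (h • v).2.2 = v.2.2 / t) ∧
      ∀ v : K × K × K, v.2.2 = 0 → (h • v).2.1 = t * v.2.1 := by
  obtain ⟨_, e, a1, a2, a3⟩ := C.exists_act hn hn' hφ
  obtain ⟨h, h1, h2, h3⟩ := tor x a1 a2 φ (fun h => hφ (a3 φ h))
    { carrier := {g | ∀ v : K × K × K, v.2 = 0 → g • v = v}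
      mul_mem' := fun {g h} hg hh v hv => by rw [mul_smul, hh v hv, hg v hv]
      one_mem' := fun v _ => one_smul _ v
      inv_mem' := fun {g} hg v hv => inv_smul_eq_iff.2 (hg v hv).symm }
    (fun u v hv => C.fixW u (congrArg Prod.snd hv)) (fun u v hv => by
      rw [mul_smul, mul_smul, C.fixW u (congrArg Prod.snd (C.stabD hn hn' hφ _ v hv)),
        smul_inv_smul]) ht
  refine ⟨h, h1, fun v => by rw [← e, h2], fun v hv => ?_⟩
  rw [← e, show v.2 = (v.2.1, 0) from Prod.ext rfl hv, h3]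

theorem exists_f {φ : G} (hφ : ¬ Pw K φ) :
    ∃ f : K →+ K, ∀ v : K × K × K, v.2.2 = 0 → (φ • v).2.1 = f (φ • v).2.2 := by
  obtain ⟨_, e, a1, a2, a3⟩ := C.exists_act hn hn' hφ
  obtain ⟨f, h1, -⟩ := r1 x a1 a2 φ (fun h => hφ (a3 φ h))
  exact ⟨f, fun v hv => by rw [← e, show v.2 = (v.2.1, 0) from Prod.ext rfl hv, h1]⟩

theorem exists_w {φ : G} (hφ : ¬ Pw K φ) (h0 : ∀ v : K × K × K, v.2.2 = 0 → (φ • v).2.1 = 0) :
    ∃ (w : G) (ρ : K →+ K), ∀ v : K × K × K,
      w • v = (v.1 + ρ v.2.1 + ρ v.2.2, v.2.2, v.2.1) := by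
  obtain ⟨_, e, a1, a2, a3⟩ := C.exists_act hn hn' hφ
  obtain ⟨f, h1, h2⟩ := r1 x a1 a2 φ (fun h => hφ (a3 φ h))
  have f0 : ∀ c, f c = 0 := fun c => by
    obtain ⟨b, hb⟩ := surj_of_ker ((AddMonoidHom.snd K K).comp
      ((DistribSMul.toAddMonoidHom _ φ).comp (AddMonoidHom.inl K K)))
      ((a2 φ).resolve_left fun h => hφ (a3 φ h)) c
    rw [← hb]
    refine (h1 b).symm.trans ?_
    rw [e φ (0, b, 0), h0 _ rfl]
  obtain ⟨s, hs⟩ := h2 1 one_ne_zero
  have h3 := r1w x a1 one_ne_zero hs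
  set w := x 1 * (φ * x s * φ⁻¹) * x 1 with hw
  have w1 : ∀ v : K × K × K, v.2 = 0 → w • v = v := fun v hv => by
    simp only [hw, mul_smul]
    rw [C.fixW 1 (congrArg Prod.snd hv), C.fixW s (congrArg Prod.snd (C.stabD hn hn' hφ _ v hv)),
      smul_inv_smul, C.fixW 1 (congrArg Prod.snd hv)]
  have w2 : ∀ v : K × K × K, (w • v).2 = (v.2.2, v.2.1) := fun v => by
    rw [← e, h3]; simp [f0, CharTwo.neg_eq]
  have w3 := C.eq_one hn hn' hφ (g := w * w) (fun v hv => by rw [mul_smul, w1 v hv, w1 v hv])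
    fun v => by rw [mul_smul, w2, w2]
  let ρ : K →+ K := (AddMonoidHom.fst _ _).comp ((DistribSMul.toAddMonoidHom _ w).comp
    ((AddMonoidHom.inr K _).comp (AddMonoidHom.inl K K)))
  have r1 : ∀ b, w • ((0, b, 0) : K × K × K) = (ρ b, 0, b) := fun b => Prod.ext rfl (w2 _)
  have r2 : ∀ c, w • ((0, 0, c) : K × K × K) = (ρ c, c, 0) := fun c => by
    have := congrArg (w • ·) (r1 c)
    simp only [← mul_smul, w3, one_smul] at this
    rw [show ((ρ c, 0, c) : K × K × K) = (ρ c, 0, 0) + (0, 0, c) by simp, smul_add,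
      w1 _ rfl, ← sub_eq_iff_eq_add'] at this
    rw [← this]; simp [CharTwo.neg_eq]
  refine ⟨w, ρ, fun v => ?_⟩
  conv_lhs => rw [show v = (v.1, 0, 0) + (0, v.2.1, 0) + (0, 0, v.2.2) by simp, smul_add,
    smul_add, w1 _ rfl, r1, r2]
  simp

theorem cover {w : G} (hw : ∀ v : K × K × K, (w • v).2 = (v.2.2, v.2.1)) {g : G}
    (hg : ¬ Pw K g) : ∃ u, Pw K (w * x u * g) := by
  obtain ⟨v, h1, h2⟩ : ∃ v : K × K × K, v.2.2 = 0 ∧ (g • v).2.2 ≠ 0 := by
    by_contra! h; exact hg h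
  refine ⟨(g • v).2.1 / (g • v).2.2, ?_⟩
  by_contra h
  have h3 := (C.interZ hn hn' (g := (w * x ((g • v).2.1 / (g • v).2.2) * g)⁻¹)
    (fun h3 => h (by simpa using h3.inv)) h1).1 (by
      rw [inv_inv, mul_smul, mul_smul, hw, C.act]
      simp [h2, CharTwo.add_self_eq_zero])
  exact h2 (congrArg Prod.snd (C.stabD hn hn' hg g v (Prod.ext h3 h1)))

end Qd

theorem Qd.pow_four {x : K → G} {S : Sylow 2 G} (C : Qd (fun t c : K => t ^ 2 * c) x S) {n : K}
    (hn : n ≠ 0) (hn' : ∀ g : G, (g • ((n, 0, 0) : K × K × K)).2.2 = 0) {φ : G} (hφ : ¬ Pw K φ)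
    (t : K) : t ^ 4 = t := by
  by_cases h0 : t = 0
  · simp [h0]
  by_cases h1 : t = 1
  · simp [h1]
  obtain ⟨h, a1, a2, a3⟩ := C.torus hn hn' hφ h0
  have key : ∀ u c : K, (h • ((0, u * c, 0) : K × K × K)).1 = u ^ 2 * c * (t ^ 3 + 1) :=
    fun u c => by
      obtain ⟨s, hs⟩ := C.conj (k := h) (fun v hv => by rw [a2, hv, zero_div]) u
      have e : ∀ c : K, h • x u • ((0, 0, c) : K × K × K) = x s • h • (0, 0, c) := fun c => by
        rw [← hs, mul_smul, mul_smul, inv_smul_smul]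
      have d : ∀ c : K, x u • ((0, 0, c) : K × K × K) =
          (u ^ 2 * c, 0, 0) + (0, u * c, 0) + (0, 0, c) := fun c => by rw [C.act]; simp
      have e1 := congrArg (·.2.1) (e 1)
      have e2 := congrArg (·.1) (e c)
      simp only [d, smul_add, a1 (_, 0, 0) rfl, C.act s, a2, Prod.fst_add, Prod.snd_add,
        a3 (0, _, 0) rfl] at e1 e2
      obtain rfl : s = t ^ 2 * u := by field_simp at e1; linear_combination -e1
      have two : (2 : K) = 0 := CharTwo.two_eq_zero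
      field_simp at e2
      linear_combination e2 - u ^ 2 * c * two
  have e1 := key t 1
  have e2 := key 1 t
  rw [mul_one] at e1
  rw [one_mul, e1] at e2
  have : t * (t - 1) * (t ^ 3 + 1) = 0 := by linear_combination e2
  have h3 := (mul_eq_zero.1 this).resolve_left (mul_ne_zero h0 (sub_ne_zero.2 h1))
  have two : (2 : K) = 0 := CharTwo.two_eq_zero
  linear_combination t * h3 - t * two

end Cfsg.Lib.Sp4F
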