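import Cfsg.Agent.Lib.Sp4F.Odd
import Cfsg.Agent.Lib.Sp4F.Qd

/-! # Characteristic two: the essential subgroups and their automizers -/

set_option autoImplicit false
set_option linter.unusedSectionVars false
set_option linter.unnecessarySeqFocus false

namespace Cfsg.Lib.Sp4F

open Subgroup Cfsg.Lib.Transfer Cfsg.Lib.Fusion
open Cfsg.FusionSystem hiding inv_mem

variable {K : Type*} [Field K] [Finite K] [CharP K 2]
  {F : FusionSystem (⊤ : Subgroup (U K))} {E : Subgroup (U K)} {x y n : U K}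

theorem comm_of_sW (h : x ∈ sW K) (s : U K) : s * x = x * s := by
  ext <;> simp [h.1, h.2, CharTwo.two_eq_zero] <;> ring

theorem comm_of_sQ (h : x ∈ sQ K) (h' : y ∈ sQ K) : x * y = y * x := by
  rw [mem_sQ] at h h'
  ext <;> simp [h, h', CharTwo.two_eq_zero] <;> ring

theorem sq_eq (x : U K) : x * x = ⟨x.t ^ 2 * x.c, x.t * x.c, 0, 0⟩ := by
  ext <;> simp [CharTwo.two_eq_zero, CharTwo.add_self_eq_zero]

omit [CharP K 2] in
theorem comm_b (h : x * y = y * x) : x.t * y.c = y.t * x.c := by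
  have := congrArg U.b h
  simp only [U.mul_b] at this
  linear_combination this

/-- A non-central involution has centralizer in `sA` or in `sQ`. -/
theorem cent_cases (h : x * x = 1) (hx : x ∉ sW K) :
    (∀ y, x * y = y * x → y ∈ sA K) ∨ ∀ y, x * y = y * x → y ∈ sQ K := by
  have h1 : x.t * x.c = 0 := by rw [sq_eq] at h; exact congrArg U.b h
  by_cases h2 : x.t = 0
  · refine Or.inl fun y hy => ?_
    have := comm_b hy
    rw [h2, zero_mul] at this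
    exact (mul_eq_zero.1 this.symm).resolve_right fun h3 => hx ⟨h3, h2⟩
  · refine Or.inr fun y hy => ?_
    have := comm_b hy
    rw [(mul_eq_zero.1 h1).resolve_left h2, mul_zero] at this
    exact (mul_eq_zero.1 this).resolve_left h2

theorem sW_le (hE : F.IsEssential 2 E) : sW K ≤ E := fun _ hx =>
  centralizerIn_le_of_centric hE.1 ⟨trivial, fun y _ => comm_of_sW hx y⟩

/-- Some automorphism of `E` in `F` moves the centre. -/
def Mv (F : FusionSystem (⊤ : Subgroup (U K))) (E : Subgroup (U K)) : Prop :=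
  ∃ φ ∈ F.autGroup E, ∃ z ∈ sW K, ext φ z ∉ sW K

theorem mv_of_ess (hF : Sat F 2) (hE : F.IsEssential 2 E) : Mv F E := by
  by_contra h
  simp only [Mv, not_exists, not_and, not_not] at h
  have h1 : F.autGroup E ≤ stab E (sW K) := fun α hα => mem_stab_inf fun x _ => h α hα x
  exact (lt_normalizerIn hF.pg (hF.lt_of_essential hE)).not_ge fun s hs =>
    mem_of_chain hF hE h1 h1 hs (fun x _ => by simp) (fun x _ _ => by simp)
      fun x _ hx => comm_of_sW hx s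

theorem ess_cases (hF : Sat F 2) (hE : F.IsEssential 2 E) : E = sA K ∨ E = sQ K := by
  obtain ⟨φ, -, z, hz, h⟩ := mv_of_ess hF hE
  have hz' := sW_le hE hz
  refine (cent_cases (x := ext φ z) (by
    rw [← homOn_ext φ z hz' z hz', sq_eq, hz.1, mul_zero, mul_zero]
    exact (homOn_ext φ).map_one) h).imp
      (fun h1 => eq_sA hE fun y hy => h1 y (ext_comm φ hz' hy (comm_of_sW hz _).symm)) fun h1 => ?_
  have h2 : E ≤ sQ K := fun y hy => h1 y (ext_comm φ hz' hy (comm_of_sW hz _).symm)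
  exact le_antisymm h2 fun _ hx =>
    centralizerIn_le_of_centric hE.1 ⟨trivial, fun _ hy => comm_of_sQ (h2 hy) hx⟩

/-- All conjugates of `n` are central. -/
def Nc (F : FusionSystem (⊤ : Subgroup (U K))) (n : U K) : Prop :=
  ∀ P f, Mor F P f → n ∈ P → f n ∈ sW K

/-- Coordinates on one of the two big elementary abelian subgroups. -/
structure Co (E : Subgroup (U K)) (θ : U K → K) (σ : K × K × K → U K) (s : K → U K)
    (κ : K → K → K) : Prop where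
  nm : E.Normal
  h1 : ∀ v, σ v ∈ E
  h2 : ∀ v, ((σ v).a, (σ v).b, θ (σ v)) = v
  h3 : ∀ x ∈ E, σ (x.a, x.b, θ x) = x
  h4 : ∀ x ∈ E, ∀ y ∈ E, ((x * y).a, (x * y).b, θ (x * y)) = (x.a, x.b, θ x) + (y.a, y.b, θ y)
  h5 : ∀ t, ∀ x ∈ E, ((s t * x * (s t)⁻¹).a, (s t * x * (s t)⁻¹).b, θ (s t * x * (s t)⁻¹)) =
    (x.a + κ t (θ x), x.b + t * θ x, θ x)
  h6 : ∀ y, ∃ t, ∀ x ∈ E, y * x * y⁻¹ = s t * x * (s t)⁻¹
  w : ∀ x ∈ E, θ x = 0 ↔ x ∈ sW K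
  le : sW K ≤ E
  add : ∀ s t c, κ (s + t) c = κ s c + κ t c
  zero : ∀ t, κ t 0 = 0
  onto : ∀ a b, a ≠ 0 → b ≠ 0 → ∃ t c, κ t c = a ∧ t * c = b

theorem coA : Co (sA K) U.c (fun v => ⟨v.1, v.2.1, v.2.2, 0⟩) (fun t => ⟨0, 0, 0, t⟩)
    fun t c => t ^ 2 * c where
  nm := normal_sA
  h1 _ := rfl
  h2 _ := rfl
  h3 x hx := U.ext rfl rfl rfl hx.symm
  h4 x hx y _ := by simp [mem_sA.1 hx]
  h5 t x hx := by simp [mem_sA.1 hx, CharTwo.two_eq_zero]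
  h6 y := ⟨y.t, fun x hx => by ext <;> simp [mem_sA.1 hx] <;> ring⟩
  w x hx := ⟨fun h => ⟨h, hx⟩, fun h => h.1⟩
  le := sW_le_sA
  add s t c := by rw [CharTwo.add_sq, add_mul]
  zero t := mul_zero _
  onto a b ha hb := ⟨a / b, b ^ 2 / a, by field_simp, by field_simp⟩

theorem coQ : Co (sQ K) U.t (fun v => ⟨v.1, v.2.1, 0, v.2.2⟩) (fun u => ⟨0, 0, u, 0⟩)
    fun u t => t ^ 2 * u where
  nm := normal_sQ
  h1 _ := rfl
  h2 _ := rfl
  h3 x hx := U.ext rfl rfl hx.symm rfl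
  h4 x _ y hy := by simp [mem_sQ.1 hy, CharTwo.two_eq_zero]
  h5 t x hx := by simp [mem_sQ.1 hx, CharTwo.two_eq_zero, CharTwo.neg_eq, mul_comm]
  h6 y := ⟨y.c, fun x hx => by
    ext <;> simp [mem_sQ.1 hx, CharTwo.two_eq_zero, CharTwo.neg_eq, CharTwo.sub_eq_add] <;>
      ring_nf <;> simp [CharTwo.two_eq_zero]⟩
  w x hx := ⟨fun h => ⟨hx, h⟩, fun h => h.2⟩
  le := sW_le_sQ
  add s t c := mul_add _ _ _
  zero t := by simp
  onto a b ha hb := ⟨b ^ 2 / a, a / b, by field_simp, by field_simp⟩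

namespace Co

variable {θ : U K → K} {σ : K × K × K → U K} {s : K → U K} {κ : K → K → K} (C : Co E θ σ s κ)
include C

theorem norm (y : U K) : y ∈ normalizer (E : Set (U K)) :=
  have := C.nm
  le_normalizer_of_normal (mem_top y)

theorem inj (hx : x ∈ E) (hy : y ∈ E) (h : (x.a, x.b, θ x) = (y.a, y.b, θ y)) : x = y := by
  rw [← C.h3 x hx, h, C.h3 y hy]

theorem extend (hF : Sat F 2) {α : MulAut E} (hα : α ∈ F.autGroup E)
    (h : ∀ z ∈ sW K, ext α z ∈ sW K) : ∃ g, Mor F ⊤ g ∧ ∀ x ∈ E, g x = ext α x :=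
  ext_of_chain hF le_top (fun y _ => C.norm y) (L := sW K) (M := sW K) le_normalizer_of_normal
    le_normalizer_of_normal (fun _ _ _ _ => by simp) (fun _ _ _ _ _ => by simp)
    (fun y _ _ _ hx => comm_of_sW hx y) hα (mem_stab_inf fun x _ => h x)
    (mem_stab_inf fun x _ => h x)

theorem exists_qd (hF : Sat F 2) : ∃ (_ : DistribMulAction (F.autGroup E) (K × K × K))
    (R : Sylow 2 (F.autGroup E)), (∀ g : F.autGroup E, ∀ x ∈ E, g • (x.a, x.b, θ x) =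
      ((ext g.1 x).a, (ext g.1 x).b, θ (ext g.1 x))) ∧
    (∀ g : F.autGroup E, Pw K g ↔ ∀ z ∈ sW K, ext g.1 z ∈ sW K) ∧
    (∀ n ∈ sZ K, Nc F n → ∀ g : F.autGroup E, (g • ((n.a, 0, 0) : K × K × K)).2.2 = 0) ∧
    Qd κ (fun t => (⟨cjA _ (s t), cjA_mem_autGroup F le_top trivial⟩ : F.autGroup E)) R := by
  have h0 : θ 1 = 0 := (C.w 1 (one_mem _)).2 (one_mem _)
  obtain ⟨_, act⟩ := exists_act (F.autGroup E) (fun x => (x.a, x.b, θ x)) σ C.h1 C.h2 C.h4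
    fun α _ x hx h => by
      rw [C.inj hx (one_mem _) (h.trans (by simp [h0, Prod.ext_iff])), (homOn_ext α).map_one]
      simp [h0, Prod.ext_iff]
  obtain ⟨-, R, hR⟩ := hF.fa (fullyNormalized_of_normal le_top fun y _ => C.norm y)
  refine ⟨_, R, act, fun g => ⟨fun h z hz => ?_, fun h v hv => ?_⟩, fun n hn hn' g => ?_,
    fun g hg => Subtype.ext (eq_one_of_ext fun x hx => ?_), fun t v => ?_, fun g => ?_, C.add,
    C.zero, C.onto⟩
  · have := h (z.a, z.b, θ z) ((C.w z (C.le hz)).2 hz)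
    rw [act g z (C.le hz)] at this
    exact (C.w _ (ext_mem _ (C.le hz))).1 this
  · rw [← C.h2 v] at hv ⊢
    rw [act g _ (C.h1 v)]
    exact (C.w _ (ext_mem _ (C.h1 v))).2 (h _ ((C.w _ (C.h1 v)).1 hv))
  · have h1 := C.le (sZ_le_sW hn)
    rw [show ((n.a, 0, 0) : K × K × K) = (n.a, n.b, θ n) by rw [hn.1, (C.w n h1).2 hn.2],
      act g n h1]
    exact (C.w _ (ext_mem _ h1)).2 (hn' _ _ (mor_ext le_top g.2) h1)
  · exact C.inj (ext_mem _ hx) hx ((act g x hx).symm.trans (hg _))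
  · rw [← C.h2 v, act _ _ (C.h1 v), ext_cjA (C.norm _) (C.h1 v), C.h5 _ _ (C.h1 v)]
  · change g ∈ (R : Subgroup (F.autGroup E)) ↔ _
    rw [hR, mem_subgroupOf, mem_autInducedBy']
    refine ⟨fun ⟨y, _, _, e⟩ => ?_, fun ⟨t, e⟩ => ⟨_, trivial, C.norm _, by rw [e]⟩⟩
    obtain ⟨t, ht⟩ := C.h6 y
    exact ⟨t, Subtype.ext (e ▸ eq_of_ext fun x hx => by
      rw [ext_cjA (C.norm _) hx, ext_cjA (C.norm _) hx, ht x hx])⟩

theorem inter (hF : Sat F 2) (hm : Mv F E) (hn : Nc F n) : n.a = 0 ∨ n.b = 0 := by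
  obtain ⟨_, R, act, pw, -, Q⟩ := C.exists_qd hF
  obtain ⟨φ, hφ, z, hz, h⟩ := hm
  have h1 : n ∈ sW K := hn _ _ (mor_id F le_top) (mem_top n)
  refine (Q.inter (g := ⟨φ, hφ⟩) fun h1 => h ((pw _).1 h1 z hz)).1 (n.a, n.b, θ n)
    ((C.w n (C.le h1)).2 h1) ?_
  rw [act _ n (C.le h1)]
  exact (C.w _ (ext_mem _ (C.le h1))).2 (hn _ _ (mor_ext le_top (inv_mem hφ)) (C.le h1))

variable (hF : Sat F 2) (hm : Mv F E) (hn : n ∈ sZ K) (n0 : n ≠ 1) (hn' : Nc F n)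
include hF hm hn n0 hn'

omit C hF hm hn' in
theorem a_ne : n.a ≠ 0 := fun h => n0 (U.ext h hn.1 hn.2.1 hn.2.2)

theorem stabZ {α : MulAut E} (hα : α ∈ F.autGroup E) (hx : x ∈ sZ K) : ext α x ∈ sZ K := by
  obtain ⟨_, R, act, pw, nc, Q⟩ := C.exists_qd hF
  obtain ⟨φ, hφ, z, hz, h⟩ := hm
  have h1 := C.le hx.2
  have := Q.stabD (a_ne hn n0) (nc n hn hn') (φ := ⟨φ, hφ⟩) (fun h1 => h ((pw _).1 h1 z hz))
    ⟨α, hα⟩ (x.a, x.b, θ x) (Prod.ext hx.1 ((C.w x h1).2 hx.2))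
  rw [act _ x h1] at this
  exact ⟨congrArg Prod.fst this, (C.w _ (ext_mem _ h1)).1 (congrArg Prod.snd this)⟩

theorem torus {t : K} (ht : t ≠ 0) : ∃ g, Mor F ⊤ g ∧ (∀ x ∈ E, θ (g x) = θ x / t) ∧
    ∀ x ∈ sW K, (g x).b = t * x.b := by
  obtain ⟨_, R, act, pw, nc, Q⟩ := C.exists_qd hF
  obtain ⟨φ, hφ, z, hz, h⟩ := hm
  obtain ⟨h, -, h2, h3⟩ := Q.torus (a_ne hn n0) (nc n hn hn') (φ := ⟨φ, hφ⟩)
    (fun h1 => h ((pw _).1 h1 z hz)) ht
  obtain ⟨g, g1, g2⟩ := C.extend hF h.2 ((pw h).1 fun v hv => by rw [h2, hv, zero_div])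
  refine ⟨g, g1, fun x hx => ?_, fun x hx => ?_⟩
  · have := h2 (x.a, x.b, θ x)
    rwa [act h x hx, ← g2 x hx] at this
  · have := h3 (x.a, x.b, θ x) ((C.w x (C.le hx)).2 hx)
    rwa [act h x (C.le hx), ← g2 x (C.le hx)] at this

theorem exists_f : ∃ φ ∈ F.autGroup E, (∃ z ∈ sW K, ext φ z ∉ sW K) ∧ ∃ f : K →+ K,
    ∀ z ∈ sW K, (ext φ z).b = f (θ (ext φ z)) := by
  obtain ⟨_, R, act, pw, nc, Q⟩ := C.exists_qd hF
  obtain ⟨φ, hφ, z, hz, h⟩ := hm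
  obtain ⟨f, hf⟩ := Q.exists_f (a_ne hn n0) (nc n hn hn') (φ := ⟨φ, hφ⟩)
    (fun h1 => h ((pw _).1 h1 z hz))
  refine ⟨φ, hφ, ⟨z, hz, h⟩, f, fun x hx => ?_⟩
  have := hf (x.a, x.b, θ x) ((C.w x (C.le hx)).2 hx)
  rwa [act _ x (C.le hx)] at this

omit hm in
theorem exists_w {φ : MulAut E} (hφ : φ ∈ F.autGroup E) (h : ∃ z ∈ sW K, ext φ z ∉ sW K)
    (h0 : ∀ z ∈ sW K, (ext φ z).b = 0) : ∃ w ∈ F.autGroup E, ∃ ρ : K →+ K, ∀ x ∈ E,
      ((ext w x).a, (ext w x).b, θ (ext w x)) = (x.a + ρ x.b + ρ (θ x), θ x, x.b) := by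
  obtain ⟨_, R, act, pw, nc, Q⟩ := C.exists_qd hF
  obtain ⟨z, hz, h⟩ := h
  obtain ⟨w, ρ, hw⟩ := Q.exists_w (a_ne hn n0) (nc n hn hn') (φ := ⟨φ, hφ⟩)
    (fun h1 => h ((pw _).1 h1 z hz)) fun v hv => by
      rw [← C.h2 v] at hv ⊢
      rw [act _ _ (C.h1 v)]
      exact h0 _ ((C.w _ (C.h1 v)).1 hv)
  exact ⟨w, w.2, ρ, fun x hx => by rw [← act w x hx, hw]⟩

omit hm in
theorem cover {w α : MulAut E} (hw : w ∈ F.autGroup E)
    (h : ∀ x ∈ E, (ext w x).b = θ x ∧ θ (ext w x) = x.b) (hα : α ∈ F.autGroup E)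
    (h1 : ¬ ∀ z ∈ sW K, ext α z ∈ sW K) :
    ∃ u, ∀ z ∈ sW K, ext (w * cjA E (s u) * α) z ∈ sW K := by
  obtain ⟨_, R, act, pw, nc, Q⟩ := C.exists_qd hF
  obtain ⟨u, hu⟩ := Q.cover (a_ne hn n0) (nc n hn hn') (w := ⟨w, hw⟩) (fun v => by
    rw [← C.h2 v, act _ _ (C.h1 v)]
    exact Prod.ext (h _ (C.h1 v)).1 (h _ (C.h1 v)).2) (g := ⟨α, hα⟩) fun h => h1 ((pw _).1 h)
  exact ⟨u, (pw _).1 hu⟩

end Co

theorem pow_four (hF : Sat F 2) (hm : Mv F (sA K)) (hn : n ∈ sZ K) (n0 : n ≠ 1) (hn' : Nc F n)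
    (t : K) : t ^ 4 = t := by
  obtain ⟨_, R, act, pw, nc, Q⟩ := coA.exists_qd hF
  obtain ⟨φ, hφ, z, hz, h⟩ := hm
  exact Q.pow_four (Co.a_ne hn n0) (nc n hn hn') (φ := ⟨φ, hφ⟩) (fun h1 => h ((pw _).1 h1 z hz)) t

end Cfsg.Lib.Sp4F
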