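import Cfsg.Agent.Lib.Sp4F.Ev1

/-! # Characteristic two: automorphisms of the whole group and uniqueness -/

set_option autoImplicit false
set_option linter.unusedSectionVars false
set_option linter.unnecessarySeqFocus false

namespace Cfsg.Lib.Sp4F

open Subgroup Cfsg.Lib.Transfer Cfsg.Lib.Fusion
open Cfsg.FusionSystem hiding inv_mem

variable {K : Type*} [Field K] [Finite K] [CharP K 2]
  {F F' : FusionSystem (⊤ : Subgroup (U K))} {E : Subgroup (U K)} {x y n : U K} {g : U K → U K}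
  {μ ν : K}

theorem pres (hF : Sat F 2) (hg : Mor F ⊤ g) :
    (∀ x ∈ sA K, g x ∈ sA K) ∧ ∀ x ∈ sQ K, g x ∈ sQ K := by
  have hm : ∀ x y, g (x * y) = g x * g y := fun x y => hg.homOn x trivial y trivial
  have nc : g ⟨0, 0, 1, 0⟩ * g ⟨0, 0, 0, 1⟩ ≠ g ⟨0, 0, 0, 1⟩ * g ⟨0, 0, 1, 0⟩ := fun h => by
    rw [← hm, ← hm] at h
    simpa using comm_b (hg.injOn (mem_top _) (mem_top _) h)
  have key : ∀ x, x * x = 1 → g x ∉ sW K → (∀ z, x * z = z * x → g z ∈ sA K) ∨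
      ∀ z, x * z = z * x → g z ∈ sQ K := fun x hx h =>
    (cent_cases (by rw [← hm, hx, hg.homOn.map_one]) h).imp
      (fun h z hz => h _ (by rw [← hm, ← hm, hz])) fun h z hz => h _ (by rw [← hm, ← hm, hz])
  rcases key ⟨0, 0, 1, 0⟩ (by rw [sq_eq]; ext <;> simp) fun h => nc (comm_of_sW h _).symm with
    h1 | h1 <;>
  rcases key ⟨0, 0, 0, 1⟩ (by rw [sq_eq]; ext <;> simp) fun h => nc (comm_of_sW h _) with h2 | h2
  · exact absurd (comm_of_sA (h1 _ rfl) (h2 _ rfl)) nc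
  · exact ⟨fun x hx => h1 x (comm_of_sA rfl hx), fun x hx => h2 x (comm_of_sQ rfl hx)⟩
  · obtain ⟨m, hm, s, -, hs⟩ := mor_pow_inner hF hg
    obtain ⟨k, rfl⟩ := Nat.not_even_iff_odd.1 fun h => hm h.two_dvd
    have : ∀ k : ℕ, g^[2 * k + 1] ⟨0, 0, 1, 0⟩ ∈ sQ K := fun k => by
      induction k with
      | zero => exact h1 _ rfl
      | succ k ih =>
        rw [show 2 * (k + 1) + 1 = 2 * k + 1 + 1 + 1 by ring, Function.iterate_succ_apply',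
          Function.iterate_succ_apply']
        exact h1 _ (comm_of_sA rfl (h2 _ (comm_of_sQ rfl ih)))
    simpa [hs _ trivial] using this k
  · exact absurd (comm_of_sQ (h1 _ rfl) (h2 _ rfl)) nc

theorem four_root (h4 : ∀ t : K, t ^ 4 = t) {x : K} (x0 : x ≠ 0) (x1 : x ≠ 1) :
    x ^ 2 + x + 1 = 0 :=
  (mul_eq_zero.1 (by linear_combination h4 x : x * (x - 1) * (x ^ 2 + x + 1) = 0)).resolve_left
    (mul_ne_zero x0 (sub_ne_zero.2 x1))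

theorem four_cases (h4 : ∀ t : K, t ^ 4 = t) (x y : K) (x0 : x ≠ 0) (x1 : x ≠ 1) :
    y = 0 ∨ y = 1 ∨ y = x ∨ y = x + 1 := by
  have two : (2 : K) = 0 := CharTwo.two_eq_zero
  have : y * ((y - 1) * ((y - x) * (y - (x + 1)))) = 0 := by
    linear_combination h4 y + (y ^ 2 - y) * four_root h4 x0 x1 +
      (-x * y ^ 3 - y ^ 3 + x * y ^ 2 + y) * two
  simpa only [mul_eq_zero, sub_eq_zero] using this

theorem lin4 (h4 : ∀ t : K, t ^ 4 = t) (σ : K →+ K) {k : ℕ} (h : ∀ c, σ^[2 * k + 1] c = c) :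
    ∃ μ, μ ≠ 0 ∧ ∀ c, σ c = μ * c := by
  have two : (2 : K) = 0 := CharTwo.two_eq_zero
  have hi : Function.Injective σ := fun a b e => by
    rw [← h a, ← h b, Function.iterate_succ_apply, Function.iterate_succ_apply, e]
  have h1 : σ 1 ≠ 0 := fun e => one_ne_zero (hi (e.trans (map_zero σ).symm))
  have cs := four_cases h4
  refine ⟨σ 1, h1, fun x => ?_⟩
  by_cases x0 : x = 0
  · simp [x0]
  by_cases x1 : x = 1
  · simp [x1]
  rcases cs x (σ x / σ 1) x0 x1 with e | e | e | e <;> rw [div_eq_iff h1] at e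
  · exact absurd (hi (by rw [e, map_zero, zero_mul])) x0
  · exact absurd (hi (by rw [e, one_mul])) x1
  · rw [e, mul_comm]
  have e1 := four_root h4 x0 x1
  have e2 : ∀ y, σ y = σ 1 * y ^ 2 := fun y => by
    rcases cs x y x0 x1 with rfl | rfl | rfl | rfl
    · simp
    · simp
    · rw [e]; linear_combination -σ 1 * e1 + σ 1 * (y + 1) * two
    · rw [map_add, e]; linear_combination -σ 1 * e1 + σ 1 * two
  have e3 : ∀ y, σ^[2] y = y := fun y => by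
    show σ (σ y) = y
    rw [e2, e2 y]
    apply mul_left_cancel₀ h1
    linear_combination y ^ 4 * h4 (σ 1) + σ 1 * h4 y
  have e4 : ∀ y, σ y = y := fun y => by
    have := h y
    rwa [Function.iterate_succ_apply', Function.iterate_mul, Function.iterate_fixed (e3 y)] at this
  rw [e4, e4, one_mul]

theorem lin4g (h4 : ∀ t : K, t ^ 4 = t) (hF : Sat F 2) (hg : Mor F ⊤ g) (L : Subgroup (U K))
    (π : U K → K) (ι : K → U K) (h1 : ∀ x ∈ L, g x ∈ L) (h2 : ∀ c, ι c ∈ L)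
    (h3 : ∀ c, π (ι c) = c) (h5 : ∀ c d, ι (c + d) = ι c * ι d)
    (h6 : ∀ x ∈ L, ∀ y ∈ L, π (x * y) = π x + π y) (h7 : ∀ x ∈ L, π (g x) = π (g (ι (π x))))
    (h8 : ∀ s c, π (s * ι c * s⁻¹) = c) : ∃ μ, μ ≠ 0 ∧ ∀ x ∈ L, π (g x) = μ * π x := by
  obtain ⟨m, hm, s, -, hs⟩ := mor_pow_inner hF hg
  obtain ⟨k, rfl⟩ := Nat.not_even_iff_odd.1 fun h => hm h.two_dvd
  let σ : K →+ K := AddMonoidHom.mk' (fun c => π (g (ι c))) fun c d => by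
    rw [h5, hg.homOn _ trivial _ trivial, h6 _ (h1 _ (h2 c)) _ (h1 _ (h2 d))]
  have key : ∀ (j : ℕ), ∀ x ∈ L, g^[j] x ∈ L ∧ π (g^[j] x) = σ^[j] (π x) := fun j x hx => by
    induction j with
    | zero => exact ⟨hx, rfl⟩
    | succ j ih =>
      rw [Function.iterate_succ_apply', Function.iterate_succ_apply', h7 _ ih.1, ih.2]
      exact ⟨h1 _ ih.1, rfl⟩
  obtain ⟨μ, h, e⟩ := lin4 h4 σ (k := k) fun c => by
    have := (key (2 * k + 1) _ (h2 c)).2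
    rwa [hs _ trivial, h8, h3, eq_comm] at this
  exact ⟨μ, h, fun x hx => (h7 x hx).trans (e _)⟩

/-- The class of systems to be classified. -/
structure Cl (F : FusionSystem (⊤ : Subgroup (U K))) : Prop where
  sat : Sat F 2
  mA : Mv F (sA K)
  mQ : Mv F (sQ K)
  ex : ∃ n ∈ sZ K, n ≠ 1 ∧ Nc F n

/-- Some automorphism in `F` acts by the scalars `μ`, `ν`. -/
def Has (F : FusionSystem (⊤ : Subgroup (U K))) (μ ν : K) : Prop :=
  ∃ g, Mor F ⊤ g ∧ ∀ x, (g x).c = μ * x.c ∧ (g x).t = ν * x.t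

/-- The automorphisms in `F` centralize `sZ`. -/
def Cen (F : FusionSystem (⊤ : Subgroup (U K))) : Prop :=
  ∀ g, Mor F ⊤ g → ∀ x ∈ sZ K, g x = x

theorem Has.mul {μ' ν' : K} (h : Has F μ ν) (h' : Has F μ' ν') : Has F (μ * μ') (ν * ν') :=
  let ⟨_, g1, g2⟩ := h
  let ⟨_, g1', g2'⟩ := h'
  ⟨_, g1'.comp g1 fun _ _ => trivial, fun x => by
    rw [(g2 _).1, (g2 _).2, (g2' _).1, (g2' _).2, mul_assoc, mul_assoc]; exact ⟨rfl, rfl⟩⟩

namespace Cl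

variable (C : Cl F)
include C

theorem four (t : K) : t ^ 4 = t :=
  let ⟨_, h1, h2, h3⟩ := C.ex
  pow_four C.sat C.mA h1 h2 h3 t

theorem cube {t : K} (h : t ≠ 0) : t ^ 3 = 1 :=
  mul_left_cancel₀ h (by linear_combination C.four t)

theorem scal (hg : Mor F ⊤ g) :
    ∃ μ ν, μ ≠ 0 ∧ ν ≠ 0 ∧ ∀ x, (g x).c = μ * x.c ∧ (g x).t = ν * x.t := by
  have hm : ∀ x y, g (x * y) = g x * g y := fun x y => hg.homOn x trivial y trivial
  obtain ⟨μ, h1, h2⟩ := lin4g C.four C.sat hg ⊤ U.c (fun c => ⟨0, 0, c, 0⟩) (fun _ _ => trivial)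
    (fun _ => trivial) (fun _ => rfl) (fun _ _ => by ext <;> simp) (fun _ _ _ _ => rfl)
    (fun x _ => by
      conv_lhs => rw [show x = ⟨0, 0, x.c, 0⟩ * ⟨x.a, x.b, 0, x.t⟩ by ext <;> simp, hm, U.mul_c,
        mem_sQ.1 ((pres C.sat hg).2 ⟨x.a, x.b, 0, x.t⟩ rfl), add_zero]) fun _ _ => by simp
  obtain ⟨ν, h3, h4⟩ := lin4g C.four C.sat hg ⊤ U.t (fun t => ⟨0, 0, 0, t⟩) (fun _ _ => trivial)
    (fun _ => trivial) (fun _ => rfl) (fun _ _ => by ext <;> simp) (fun _ _ _ _ => rfl)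
    (fun x _ => by
      conv_lhs => rw [show x = ⟨x.a, x.b, x.c, 0⟩ * ⟨0, 0, 0, x.t⟩ by ext <;> simp, hm, U.mul_t,
        mem_sA.1 ((pres C.sat hg).1 ⟨x.a, x.b, x.c, 0⟩ rfl), zero_add]) fun _ _ => by simp
  exact ⟨μ, ν, h1, h3, fun x => ⟨h2 x trivial, h4 x trivial⟩⟩

theorem actW (hg : Mor F ⊤ g) (μ0 : μ ≠ 0) (ν0 : ν ≠ 0)
    (h : ∀ x, (g x).c = μ * x.c ∧ (g x).t = ν * x.t) (hx : x ∈ sW K) :
    g x = ⟨ν ^ 2 * μ * x.a, ν * μ * x.b, 0, 0⟩ := by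
  have hm : ∀ x y, g (x * y) = g x * g y := fun x y => hg.homOn x trivial y trivial
  have two : (2 : K) = 0 := CharTwo.two_eq_zero
  have hZ : ∀ x ∈ sZ K, g x ∈ sZ K := fun x hx => by
    obtain ⟨n, n1, n2, n3⟩ := C.ex
    obtain ⟨α, hα, e⟩ := (hg.mono (le_top : sA K ≤ ⊤)).exists_aut' (pres C.sat hg).1
    rw [← e x hx.2.2]
    exact coA.stabZ C.sat C.mA n1 n2 n3 hα hx
  obtain ⟨κ, κ0, h2⟩ := lin4g C.four C.sat hg (sZ K) U.a (fun a => ⟨a, 0, 0, 0⟩) hZ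
    (fun _ => ⟨rfl, rfl, rfl⟩) (fun _ => rfl) (fun _ _ => by ext <;> simp)
    (fun x hx y _ => by simp [hx.2.2]) (fun x hx => by
      rw [show x = ⟨x.a, 0, 0, 0⟩ from U.ext rfl hx.1 hx.2.1 hx.2.2])
    fun s c => by rw [comm_of_sZ (x := ⟨c, 0, 0, 0⟩) ⟨rfl, rfl, rfl⟩, mul_inv_cancel_right]
  have h3 : ∀ a t c : K, g ⟨a + t ^ 2 * c, t * c, 0, 0⟩ =
      ⟨κ * a + ν ^ 2 * μ * (t ^ 2 * c), ν * μ * (t * c), 0, 0⟩ := fun a t c => by
    obtain ⟨e1, e2, e3⟩ := hZ ⟨a, 0, 0, 0⟩ ⟨rfl, rfl, rfl⟩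
    rw [show (⟨a + t ^ 2 * c, t * c, 0, 0⟩ : U K) = ⟨a, 0, 0, 0⟩ * (⟨0, 0, c, t⟩ * ⟨0, 0, c, t⟩) by
      rw [sq_eq]; ext <;> simp, hm, hm, sq_eq]
    ext <;> simp [h2 ⟨a, 0, 0, 0⟩ ⟨rfl, rfl, rfl⟩, e1, e2, e3, h] <;> ring
  obtain rfl : κ = ν ^ 2 * μ := by
    by_contra hne
    have key : ∀ t : K, t ≠ 0 → t = 1 := fun t ht => by
      have e1 := h3 (t ^ 2) t 1
      have e2 := h3 t 1 t
      simp only [mul_one, one_mul, one_pow, CharTwo.add_self_eq_zero] at e1 e2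
      have := congrArg U.a (e1.symm.trans e2)
      have e : (κ - ν ^ 2 * μ) * (t * (t - 1)) = 0 := by
        linear_combination this - ν ^ 2 * μ * (t ^ 2 - t) * two
      simpa [sub_eq_zero, hne, ht] using e
    exact hne ((key κ κ0).trans (key _ (mul_ne_zero (pow_ne_zero 2 ν0) μ0)).symm)
  have := h3 (x.a - x.b) 1 x.b
  simp only [one_pow, one_mul, sub_add_cancel] at this
  rw [show x = ⟨x.a, x.b, 0, 0⟩ from U.ext rfl rfl hx.1 hx.2, this]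
  ext <;> simp <;> ring

theorem has_diag (μ0 : μ ≠ 0) : Has F μ μ := by
  obtain ⟨n, n1, n2, n3⟩ := C.ex
  obtain ⟨g, g1, g2, g3⟩ := coA.torus C.sat C.mA n1 n2 n3 (inv_ne_zero μ0)
  obtain ⟨μ', ν, h1, h2, h3⟩ := C.scal g1
  obtain rfl : μ' = μ := by simpa [h3] using g2 ⟨0, 0, 1, 0⟩ rfl
  have e := g3 ⟨0, 1, 0, 0⟩ ⟨rfl, rfl⟩
  rw [C.actW g1 h1 h2 h3 ⟨rfl, rfl⟩] at e
  obtain rfl : ν = μ' := by
    field_simp at e
    linear_combination μ' * e - ν * C.cube h1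
  exact ⟨g, g1, h3⟩

theorem has_all (hc : ¬ Cen F) (μ0 : μ ≠ 0) (ν0 : ν ≠ 0) : Has F μ ν := by
  simp only [Cen, not_forall] at hc
  obtain ⟨g, g1, x, hx, h⟩ := hc
  obtain ⟨μ₀, ν₀, h1, h2, h3⟩ := C.scal g1
  have r1 : μ₀ * ν₀ ^ 2 ≠ 1 := fun e => h (by
    rw [C.actW g1 h1 h2 h3 hx.2, mul_comm _ μ₀, e, hx.1]
    exact U.ext (one_mul _) (by simp [hx.1]) hx.2.1.symm hx.2.2.symm)
  have r2 := Has.mul ⟨g, g1, h3⟩ (C.has_diag (pow_ne_zero 2 h2))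
  rw [← pow_succ', C.cube h2] at r2
  have r3 := C.cube (mul_ne_zero h1 (pow_ne_zero 2 h2))
  generalize μ₀ * ν₀ ^ 2 = r at r1 r2 r3
  have e : (r - 1) * (r ^ 2 + r + 1) = 0 := by linear_combination r3
  have e1 := (mul_eq_zero.1 e).resolve_left (sub_ne_zero.2 r1)
  have e2 : (μ / ν - 1) * ((μ / ν - r) * (μ / ν - r * r)) = 0 := by
    linear_combination C.cube (div_ne_zero μ0 ν0) + (μ / ν * r - (μ / ν) ^ 2) * e1 - r3
  have key : Has F (μ / ν) 1 := by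
    simp only [mul_eq_zero, sub_eq_zero] at e2
    rcases e2 with e | e | e <;> rw [e]
    · exact C.has_diag one_ne_zero
    · exact r2
    · simpa using r2.mul r2
  simpa [ν0] using key.mul (C.has_diag ν0)

theorem eq_of_cen (hc : Cen F) (μ0 : μ ≠ 0) (ν0 : ν ≠ 0) (h : Has F μ ν) : μ = ν := by
  obtain ⟨g, g1, g2⟩ := h
  have := congrArg U.a (hc g g1 ⟨1, 0, 0, 0⟩ ⟨rfl, rfl, rfl⟩)
  rw [C.actW g1 μ0 ν0 g2 ⟨rfl, rfl⟩] at this
  linear_combination ν * this - μ * C.cube ν0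

variable {θ : U K → K} {σ : K × K × K → U K} {s : K → U K} {κ : K → K → K}

theorem adjust (D : Co E θ σ s κ) {w : MulAut E} (hw : w ∈ F.autGroup E)
    (h : ∀ x ∈ E, ((ext w x).a, (ext w x).b, θ (ext w x)) = (x.a, θ x, x.b)) (hg : Mor F ⊤ g)
    (hE : ∀ x ∈ E, g x ∈ E) : ∃ u, ∀ x ∈ E, x.a = 0 → x.b = 0 →
      (s u * g x * (s u)⁻¹).a = 0 ∧ (s u * g x * (s u)⁻¹).b = 0 := by
  obtain ⟨n, n1, n2, n3⟩ := C.ex
  obtain ⟨α, hα, e⟩ := (hg.mono (le_top : E ≤ ⊤)).exists_aut' hE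
  have ha : ∀ x ∈ E, (ext w x).a = x.a := fun x hx => congrArg (·.1) (h x hx)
  have hb : ∀ x ∈ E, (ext w x).b = θ x := fun x hx => congrArg (·.2.1) (h x hx)
  have hc : ∀ x ∈ E, θ (ext w x) = x.b := fun x hx => congrArg (·.2.2) (h x hx)
  have hz : ∀ b : K, (⟨0, b, 0, 0⟩ : U K) ∈ sW K := fun _ => ⟨rfl, rfl⟩
  obtain ⟨u, hu⟩ := D.cover C.sat n1 n2 n3 hw (fun x hx => ⟨hb x hx, hc x hx⟩) (mul_mem hα hw)
    fun h1 => by
      obtain ⟨μ, ν, μ0, ν0, h2⟩ := C.scal hg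
      have h3 := h1 _ (hz 1)
      have h4 := ext_mem w (D.le (hz 1))
      rw [ext_mul, e _ h4, mem_sW, (h2 _).1, (h2 _).2] at h3
      simpa [hc _ (D.le (hz 1))] using (D.w _ h4).2
        ⟨(mul_eq_zero.1 h3.1).resolve_left μ0, (mul_eq_zero.1 h3.2).resolve_left ν0⟩
  obtain ⟨f, f1, f2⟩ := D.extend C.sat (mul_mem (mul_mem hw (cjA_mem_autGroup F le_top trivial))
    (mul_mem hα hw)) hu
  refine ⟨u, fun x hx x1 x2 => ?_⟩
  have h1 := D.le (hz (θ x))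
  have h2 : ext w ⟨0, θ x, 0, 0⟩ = x := D.inj (ext_mem _ h1) hx (by
    rw [h _ h1, (D.w _ h1).2 (hz _), x1, x2])
  have h3 : s u * g x * (s u)⁻¹ ∈ E := D.nm.conj_mem _ (hE x hx) _
  have h4 : ext (w * cjA E (s u) * (α * w)) ⟨0, θ x, 0, 0⟩ = ext w (s u * g x * (s u)⁻¹) := by
    rw [ext_mul, ext_mul, ext_mul, h2, e x hx, ext_cjA (D.norm _) (hE x hx)]
  obtain ⟨μ, ν, μ0, ν0, h5⟩ := C.scal f1
  refine ⟨?_, ?_⟩
  · rw [← ha _ h3, ← h4, ← f2 _ h1, C.actW f1 μ0 ν0 h5 (hz _)]; simp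
  · rw [← hc _ h3, ← h4, D.w _ (ext_mem _ h1)]; exact hu _ (hz _)

theorem mor_ess (D : Co E θ σ s κ) {w : MulAut E} (hw : w ∈ F.autGroup E)
    (hw' : w ∈ F'.autGroup E)
    (h : ∀ x ∈ E, ((ext w x).a, (ext w x).b, θ (ext w x)) = (x.a, θ x, x.b))
    (ht : ∀ g, Mor F ⊤ g → Mor F' ⊤ g) {α : MulAut E} (hα : α ∈ F.autGroup E) :
    α ∈ F'.autGroup E := by
  obtain ⟨n, n1, n2, n3⟩ := C.ex
  have key : ∀ β ∈ F.autGroup E, (∀ z ∈ sW K, ext β z ∈ sW K) → β ∈ F'.autGroup E :=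
    fun β hβ h1 => by
      obtain ⟨f, f1, f2⟩ := D.extend C.sat hβ h1
      exact ((ht f f1).mono le_top).mem_autGroup_of_eq fun x hx => (f2 x hx).symm
  by_cases h1 : ∀ z ∈ sW K, ext α z ∈ sW K
  · exact key α hα h1
  obtain ⟨u, hu⟩ := D.cover C.sat n1 n2 n3 hw
    (fun x hx => ⟨congrArg (·.2.1) (h x hx), congrArg (·.2.2) (h x hx)⟩) hα h1
  exact (mul_mem_cancel_left (mul_mem hw' (cjA_mem_autGroup F' le_top trivial))).1
    (key _ (mul_mem (mul_mem hw (cjA_mem_autGroup F le_top trivial)) hα) hu)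

end Cl

/-- Standard form. -/
structure Std (F : FusionSystem (⊤ : Subgroup (U K))) : Prop extends Cl F where
  wA : ∃ w ∈ F.autGroup (sA K), ∀ x ∈ sA K,
    ((ext w x).a, (ext w x).b, (ext w x).c) = (x.a, x.c, x.b)
  wQ : ∃ w ∈ F.autGroup (sQ K), ∀ x ∈ sQ K,
    ((ext w x).a, (ext w x).b, (ext w x).t) = (x.a, x.t, x.b)

theorem Std.dg (C : Std F) (hg : Mor F ⊤ g) (μ0 : μ ≠ 0) (ν0 : ν ≠ 0)
    (h : ∀ x, (g x).c = μ * x.c ∧ (g x).t = ν * x.t) : ∃ s : U K, ∀ x, s * g x * s⁻¹ =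
      ⟨ν ^ 2 * μ * x.a, ν * μ * x.b, μ * x.c, ν * x.t⟩ := by
  obtain ⟨w, w1, w2⟩ := C.wA
  obtain ⟨u, hu⟩ := C.adjust coA w1 w2 hg (pres C.sat hg).1
  obtain ⟨w', w1', w2'⟩ := C.wQ
  obtain ⟨v, hv⟩ := C.adjust coQ w1' w2' hg (pres C.sat hg).2
  refine ⟨⟨0, 0, v, u⟩, fun x => ?_⟩
  have h1 := hg.comp (mor_conj F le_rfl (mem_top ⟨0, 0, v, u⟩)) fun _ _ => trivial
  have hm := fun x y => h1.homOn x trivial y trivial
  have h2 := C.actW (x := ⟨x.a, x.b, 0, 0⟩) h1 μ0 ν0 (fun x => by simpa using h x) ⟨rfl, rfl⟩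
  have h3 := hu ⟨0, 0, x.c, 0⟩ rfl rfl rfl
  have h4 := hv ⟨0, 0, 0, x.t⟩ rfl rfl rfl
  have h5 := h ⟨0, 0, x.c, 0⟩
  have h6 := h ⟨0, 0, 0, x.t⟩
  have two : (2 : K) = 0 := CharTwo.two_eq_zero
  have e1 : (⟨0, 0, v, u⟩ : U K) * g ⟨0, 0, x.c, 0⟩ * ⟨0, 0, v, u⟩⁻¹ = ⟨0, 0, μ * x.c, 0⟩ := by
    simp [h5, two] at h3
    ext <;> simp [h5, two, h3, CharTwo.add_self_eq_zero]
  have e2 : (⟨0, 0, v, u⟩ : U K) * g ⟨0, 0, 0, x.t⟩ * ⟨0, 0, v, u⟩⁻¹ = ⟨0, 0, 0, ν * x.t⟩ := by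
    simp [h6, two] at h4
    ext <;> simp [h6, two]
    · linear_combination h4.1 - (u * ν * x.t * v + u ^ 2 * v) * two
    · linear_combination h4.2
  conv_lhs => rw [show x = ⟨x.a, x.b, 0, 0⟩ * ⟨0, 0, x.c, 0⟩ * ⟨0, 0, 0, x.t⟩ by ext <;> simp]
  beta_reduce at hm h2
  rw [hm, hm, h2, e1, e2]
  ext <;> simp

theorem Std.mor (C : Std F) (C' : Std F') (hc : Cen F' → Cen F) {P : Subgroup (U K)}
    {f : U K → U K} (hf : Mor F P f) : Mor F' P f := by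
  have ht : ∀ g, Mor F ⊤ g → Mor F' ⊤ g := fun g hg => by
    obtain ⟨μ, ν, μ0, ν0, h⟩ := C.scal hg
    obtain ⟨g', g1, g2⟩ : Has F' μ ν := by
      by_cases h1 : Cen F'
      · exact C.eq_of_cen (hc h1) μ0 ν0 ⟨g, hg, h⟩ ▸ C'.has_diag μ0
      · exact C'.has_all h1 μ0 ν0
    obtain ⟨s, hs⟩ := C.dg hg μ0 ν0 h
    obtain ⟨s', hs'⟩ := C'.dg g1 μ0 ν0 g2
    exact (g1.comp (mor_conj F' le_rfl (mem_top (s⁻¹ * s'))) fun _ _ => trivial).congr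
      fun x _ => by
        rw [show g x = s⁻¹ * (s * g x * s⁻¹) * s by group, hs, ← hs']; group
  refine C.sat.mor_of_essential (fun P hP α hα => ?_) hf
  rcases hP with rfl | hP
  · exact ht _ (mor_ext le_rfl hα)
  rcases ess_cases C.sat hP with rfl | rfl
  · obtain ⟨w, w1, w2⟩ := C.wA
    obtain ⟨w', w1', w2'⟩ := C'.wA
    obtain rfl : w = w' := eq_of_ext fun x hx =>
      coA.inj (ext_mem _ hx) (ext_mem _ hx) ((w2 x hx).trans (w2' x hx).symm)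
    exact mor_ext le_top (C.mor_ess coA w1 w1' w2 ht hα)
  · obtain ⟨w, w1, w2⟩ := C.wQ
    obtain ⟨w', w1', w2'⟩ := C'.wQ
    obtain rfl : w = w' := eq_of_ext fun x hx =>
      coQ.inj (ext_mem _ hx) (ext_mem _ hx) ((w2 x hx).trans (w2' x hx).symm)
    exact mor_ext le_top (C.mor_ess coQ w1 w1' w2 ht hα)

end Cfsg.Lib.Sp4F
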