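import Cfsg.Agent.Lib.Sp4F.Ev2
import Cfsg.Agent.Lib.Rk2.Amb

/-! # Characteristic two: reduction to the standard form, and models -/

set_option autoImplicit false
set_option linter.unusedSectionVars false
set_option linter.unnecessarySeqFocus false

namespace Cfsg.Lib.Sp4F

open Subgroup Cfsg.Lib.Transfer Cfsg.Lib.Fusion
open Cfsg.FusionSystem hiding inv_mem

variable {K : Type*} [Field K] [Finite K] [CharP K 2]
  {F F' : FusionSystem (⊤ : Subgroup (U K))} {E E' : Subgroup (U K)} {n : U K}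
  {η : U K → U K}

theorem exists_tr (F : FusionSystem (⊤ : Subgroup (U K))) (η : U K →* U K)
    (h : Function.Injective η) : ∃ F' : FusionSystem (⊤ : Subgroup (U K)), Iso F F' η :=
  exists_iso F (homOn_hom ⊤ η) h.injOn (by
    rw [im_hom, ← MonoidHom.range_eq_map,
      MonoidHom.range_eq_top.2 (Finite.injective_iff_surjective.1 h)])

theorem im_eq_of (e : Iso F F' η) (hE : ∀ x, η x ∈ E' ↔ x ∈ E) : im η E = E' :=
  le_antisymm (im_le_iff.2 fun x => (hE x).2) fun y hy => by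
    obtain ⟨x, -, rfl⟩ := e.exists_eq (mem_top y)
    exact mem_im_of_mem _ ((hE x).1 hy)

theorem tr (e : Iso F F' η) (hE : ∀ x, η x ∈ E' ↔ x ∈ E) {α : MulAut E} (hα : α ∈ F.autGroup E) :
    ∃ β ∈ F'.autGroup E', ∀ x ∈ E, ext β (η x) = η (ext α x) :=
  let ⟨τ, h1, h2, _⟩ := e.exists_congr le_top (im_eq_of e hE)
  ⟨τ α, h2 ▸ mem_map_of_mem _ hα, h1 α⟩

theorem Mv.iso (h : Mv F E) (hW : sW K ≤ E) (e : Iso F F' η) (hE : ∀ x, η x ∈ E' ↔ x ∈ E)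
    (h1 : ∀ x, η x ∈ sW K ↔ x ∈ sW K) : Mv F' E' :=
  let ⟨_, hφ, z, hz, h2⟩ := h
  let ⟨β, hβ, h3⟩ := tr e hE hφ
  ⟨β, hβ, η z, (h1 z).2 hz, by rwa [h3 z (hW hz), h1]⟩

theorem Nc.iso (h : Nc F n) (e : Iso F F' η) (h1 : ∀ x, η x ∈ sW K ↔ x ∈ sW K) :
    Nc F' (η n) := fun P f hf hn => by
  obtain ⟨P, hP, rfl⟩ := e.exists_im hf.le
  obtain ⟨g, g1, g2⟩ := e.up hP hf
  have h2 := (e.mem_im_iff hP (mem_top n)).1 hn
  rw [g2 n h2, h1]
  exact h P g g1 h2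

theorem cen_iff (e : Iso F F' η) (h : ∀ x ∈ sZ K, η x = x) : Cen F ↔ Cen F' := by
  refine ⟨fun H g hg x hx => ?_, fun H g hg x hx => ?_⟩
  · obtain ⟨f, f1, f2⟩ := e.up le_rfl (hg.mono le_top)
    rw [← h x hx, f2 x trivial, H f f1 x hx]
  · obtain ⟨f, f1, f2⟩ := e.down hg
    refine e.inj (mem_top _) (mem_top _) ?_
    rw [← f2 x trivial, h x hx, H f (f1.mono e.im_eq.ge) x hx]

theorem Cl.shift (C : Cl F) (η : U K →* U K) (hc : ∀ x, (η x).c = x.c) (ht : ∀ x, (η x).t = x.t)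
    (hW : ∀ x ∈ sW K, η x = x) : ∃ F' : FusionSystem (⊤ : Subgroup (U K)), Iso F F' η ∧ Cl F' ∧
      (Cen F ↔ Cen F') ∧ Function.Surjective η := by
  have hi : Function.Injective η := (injective_iff_map_eq_one _).2 fun x hx =>
    (hW x ⟨by rw [← hc, hx, U.one_c], by rw [← ht, hx, U.one_t]⟩).symm.trans hx
  obtain ⟨F', e⟩ := exists_tr F η hi
  have h1 : ∀ x, η x ∈ sW K ↔ x ∈ sW K := fun x => by simp [hc, ht]
  obtain ⟨n, n1, n2, n3⟩ := C.ex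
  exact ⟨F', e, ⟨e.sat C.sat, C.mA.iso sW_le_sA e (fun x => by simp [ht]) h1,
    C.mQ.iso sW_le_sQ e (fun x => by simp [hc]) h1, n, n1, n2, hW n n1.2 ▸ n3.iso e h1⟩,
    cen_iff e fun x hx => hW x hx.2, Finite.injective_iff_surjective.1 hi⟩

theorem Cl.exists_std (C : Cl F) : ∃ (F' : FusionSystem (⊤ : Subgroup (U K))) (η : U K → U K),
    Iso F F' η ∧ Std F' ∧ (Cen F ↔ Cen F') := by
  have two : (2 : K) = 0 := CharTwo.two_eq_zero
  obtain ⟨n, n1, n2, n3⟩ := C.ex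
  obtain ⟨φ, hφ, ⟨z, hz, h1⟩, f, h2⟩ := coA.exists_f C.sat C.mA n1 n2 n3
  obtain ⟨φ', hφ', ⟨z', hz', h1'⟩, f', h2'⟩ := coQ.exists_f C.sat C.mQ n1 n2 n3
  let η : U K →* U K := MonoidHom.mk' (fun x => ⟨x.a, x.b + f x.c + f' x.t, x.c, x.t⟩)
    fun x y => by ext <;> simp [two] <;> ring
  have ηW : ∀ x ∈ sW K, η x = x := fun x hx => by ext <;> simp [η, hx.1, hx.2]
  obtain ⟨F₁, e₁, C₁, c₁, -⟩ := C.shift η (fun _ => rfl) (fun _ => rfl) ηW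
  obtain ⟨ψ, hψ, h3⟩ := tr e₁ (E' := sA K) (fun _ => Iff.rfl) hφ
  obtain ⟨ψ', hψ', h3'⟩ := tr e₁ (E' := sQ K) (fun _ => Iff.rfl) hφ'
  obtain ⟨n, n1, n2, n3⟩ := C₁.ex
  obtain ⟨w, hw, ρ, h4⟩ := coA.exists_w C₁.sat n1 n2 n3 hψ
    ⟨z, hz, by rw [← ηW z hz, h3 z hz.2]; exact h1⟩ fun z hz => by
      rw [← ηW z hz, h3 z hz.2]
      simp [η, h2 z hz, mem_sA.1 (ext_mem φ hz.2), CharTwo.add_self_eq_zero]
  obtain ⟨w', hw', ρ', h4'⟩ := coQ.exists_w C₁.sat n1 n2 n3 hψ'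
    ⟨z', hz', by rw [← ηW z' hz', h3' z' hz'.1]; exact h1'⟩ fun z hz => by
      rw [← ηW z hz, h3' z hz.1]
      simp [η, h2' z hz, mem_sQ.1 (ext_mem φ' hz.1), CharTwo.add_self_eq_zero]
  let ξ : U K →* U K := MonoidHom.mk' (fun x => ⟨x.a + ρ x.c + ρ' x.t, x.b, x.c, x.t⟩)
    fun x y => by ext <;> simp [two] <;> ring
  obtain ⟨F₂, e₂, C₂, c₂, sj⟩ := C₁.shift ξ (fun _ => rfl) (fun _ => rfl)
    fun x hx => by ext <;> simp [ξ, hx.1, hx.2]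
  obtain ⟨v, hv, h5⟩ := tr e₂ (E' := sA K) (fun _ => Iff.rfl) hw
  obtain ⟨v', hv', h5'⟩ := tr e₂ (E' := sQ K) (fun _ => Iff.rfl) hw'
  refine ⟨F₂, _, e₁.trans e₂, ⟨C₂, ⟨v, hv, fun x hx => ?_⟩, v', hv', fun x hx => ?_⟩, c₁.trans c₂⟩
  · obtain ⟨x, rfl⟩ := sj x
    obtain ⟨a1, a2, a3⟩ : _ ∧ _ ∧ _ := by simpa only [Prod.ext_iff] using h4 x hx
    replace hx : x ∈ sA K := hx
    rw [h5 x hx]
    simp [ξ, a1, a2, a3, mem_sA.1 (ext_mem w hx), mem_sA.1 hx]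
    linear_combination ρ x.b * two
  · obtain ⟨x, rfl⟩ := sj x
    obtain ⟨a1, a2, a3⟩ : _ ∧ _ ∧ _ := by simpa only [Prod.ext_iff] using h4' x hx
    replace hx : x ∈ sQ K := hx
    rw [h5' x hx]
    simp [ξ, a1, a2, a3, mem_sQ.1 (ext_mem w' hx), mem_sQ.1 hx]
    linear_combination ρ' x.b * two

theorem Cl.realizable (C : Cl F) (C' : Cl F') (hc : Cen F ↔ Cen F') (h : F'.IsRealizable 2) :
    F.IsRealizable 2 := by
  obtain ⟨F₁, η, e, D, c⟩ := C.exists_std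
  obtain ⟨F₂, η', e', D', c'⟩ := C'.exists_std
  have hc' : Cen F₁ ↔ Cen F₂ := c.symm.trans (hc.trans c')
  obtain rfl : F₁ = F₂ := ext_mor fun P f => ⟨D.mor D' hc'.2, D'.mor D hc'.1⟩
  obtain ⟨j, e'', -⟩ := e'.symm
  exact Rk2.realizable_of_iso (e.trans e'') h

theorem exists_cl (hF : Sat F 2) (hN : F.core ≠ ⊥) (hc : ¬ F.IsConstrained 2) :
    ∃ (F' : FusionSystem (⊤ : Subgroup (U K))) (η : U K → U K), Iso F F' η ∧ Cl F' := by
  have two : (2 : K) = 0 := CharTwo.two_eq_zero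
  obtain ⟨hA, hQ⟩ : F.IsEssential 2 (sA K) ∧ F.IsEssential 2 (sQ K) := by
    by_contra h
    refine hc (constrained_of_unique hF fun E E' hE hE' => ?_)
    rcases ess_cases hF hE with rfl | rfl <;> rcases ess_cases hF hE' with rfl | rfl
    exacts [rfl, absurd ⟨hE, hE'⟩ h, absurd ⟨hE', hE⟩ h, rfl]
  obtain ⟨⟨n, hn⟩, n0⟩ := ne_bot_iff_exists_ne_one.1 hN
  have n1 : n ≠ 1 := fun h => n0 (Subtype.ext h)
  have n2 : Nc F n := fun P f hf hP =>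
    have h := hf.mem_of_stronglyClosed (sc_core F) hP hn
    ⟨core_le_ess hF hQ h, core_le_ess hF hA h⟩
  have n3 : n ∈ sW K := n2 _ _ (mor_id F le_top) (mem_top n)
  rcases coA.inter hF (mv_of_ess hF hA) n2 with h | h
  swap
  · exact ⟨F, _, iso_refl F, hF, mv_of_ess hF hA, mv_of_ess hF hQ, n, ⟨h, n3⟩, n1, n2⟩
  let η : U K →* U K := MonoidHom.mk' (fun x =>
    ⟨x.b ^ 2 + x.c ^ 2 * x.t ^ 2, x.a + x.c * x.t ^ 2, x.t ^ 2, x.c⟩) fun x y => by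
      ext <;> simp [two, CharTwo.add_sq]
      · linear_combination (x.t ^ 2 * y.c ^ 2) * two
      · linear_combination (x.t ^ 2 * y.c) * two
  have hi : Function.Injective η := (injective_iff_map_eq_one _).2 fun x hx => by
    obtain ⟨h1, h2, h3, h4⟩ := U.ext_iff.1 hx
    simp [η] at h1 h2 h3 h4
    ext <;> simp_all
  obtain ⟨F', e⟩ := exists_tr F η hi
  have h1 : ∀ x, η x ∈ sW K ↔ x ∈ sW K := fun x => by simp [η, and_comm]
  exact ⟨F', η, e, e.sat hF, (mv_of_ess hF hQ).iso sW_le_sQ e (fun x => by simp [η]) h1,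
    (mv_of_ess hF hA).iso sW_le_sA e (fun x => by simp [η]) h1, η n,
    by simp [η, h, n3.1, n3.2], fun h => n1 (hi (h.trans (map_one η).symm)), n2.iso e h1⟩

section model

variable {G : Type*} [Group G] [Finite G] {ι : U K →* G}

theorem exists_model (hi : Function.Injective ι) (ho : ¬ 2 ∣ ι.range.index) :
    ∃ F : FusionSystem (⊤ : Subgroup (U K)), Sat F 2 ∧ F.IsRealizable 2 ∧
      ∀ P f, Mor F P f ↔ ∃ g : G, ∀ x ∈ P, ι (f x) = g * ι x * g⁻¹ := by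
  let q := (MonoidHom.ofInjective hi).symm
  have hS : SylGrp (groupFusionSystem ι.range) ⊤ 2 := ⟨grp_group _,
    (U.isPGroup 2).of_equiv q.symm, by rwa [relIndex_top_right]⟩
  obtain ⟨F, e⟩ := exists_iso (groupFusionSystem ι.range) (homOn_fn q.toMonoidHom)
    (injOn_fn q.injective) (S' := ⊤) (by rw [im_fn, MonoidHom.range_eq_top.2 q.surjective])
  obtain ⟨j, e', h1, -⟩ := e.symm
  have hj : ∀ x, j x = ι x := fun x => by
    rw [← h1 (ι x) ⟨x, rfl⟩, fn_apply _ (MonoidHom.mem_range.2 ⟨x, rfl⟩)]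
    exact congrArg j (q.symm.symm_apply_apply x).symm
  exact ⟨F, e.sat hS.sat, Rk2.Real.realizable (H := ⊤) ⟨_, _, _, hS, e'⟩, fun P f => by
    simpa only [hj] using e'.mor_iff_conj hS.toGrp le_top fun _ _ => trivial⟩

theorem mv_of_model (h : ∀ P f, Mor F P f ↔ ∃ g : G, ∀ x ∈ P, ι (f x) = g * ι x * g⁻¹)
    (hW : sW K ≤ E) (g : G) (h1 : ∀ x ∈ E, ∃ y ∈ E, ι y = g * ι x * g⁻¹) {z : U K} (hz : z ∈ sW K)
    (h2 : ∀ y ∈ sW K, ι y ≠ g * ι z * g⁻¹) : Mv F E := by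
  choose! f f1 f2 using h1
  obtain ⟨α, hα, e⟩ := ((h E f).2 ⟨g, f2⟩).exists_aut' f1
  exact ⟨α, hα, z, hz, fun h => h2 _ h (by rw [e z (hW hz), f2 z (hW hz)])⟩

end model

end Cfsg.Lib.Sp4F
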