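import Cfsg.Agent.Lib.Sp4F.Mod
import Cfsg.Agent.Lib.Linear.Simple
import Cfsg.Agent.S2088

/-! # Characteristic two: conclusion -/

set_option autoImplicit false
set_option linter.unusedSectionVars false
set_option linter.unnecessarySeqFocus false

namespace Cfsg.Lib.Sp4F

open Subgroup Cfsg.Lib.Fusion Cfsg.Lib.Linear Matrix

variable {K : Type*} [Field K] [Fintype K] [CharP K 2]

theorem exists_hs {ω : K} (hω : ω ^ 3 = 1) :
    ∃ (u : U K →* ProjectiveSpecialLinearGroup (Fin 3) K)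
      (γ : ProjectiveSpecialLinearGroup (Fin 3) K →* ProjectiveSpecialLinearGroup (Fin 3) K),
      Hs u ∧ (∀ x, γ (γ (γ x)) = x) ∧ ∀ x, γ (u x) = u ⟨0, ω * x.b, ω * x.c, x.t⟩ := by
  have two : (2 : K) = 0 := CharTwo.two_eq_zero
  let v : U K →* SpecialLinearGroup (Fin 3) K := MonoidHom.mk' (fun x => (uni3 x.t x.c x.b).1)
    fun x y => by rw [← Subgroup.coe_mul, uni3_mul]; rfl
  have hv : ∀ x, (v x).1 = !![1, x.t, x.b; 0, 1, x.c; 0, 0, 1] := fun _ => rfl
  let m := QuotientGroup.mk' (center (SpecialLinearGroup (Fin 3) K))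
  have cj : ∀ (w : SpecialLinearGroup (Fin 3) K) (x y : U K), w.1 * (v x).1 = (v y).1 * w.1 →
      m w * m (v x) * (m w)⁻¹ = m (v y) := fun w x y h => by
    rw [mul_inv_eq_iff_eq_mul, ← map_mul, ← map_mul]
    exact congrArg m (Subtype.ext h)
  let D : Matrix (Fin 3) (Fin 3) K := diagonal ![1, 1, ω ^ 2]
  let D' : Matrix (Fin 3) (Fin 3) K := diagonal ![1, 1, ω]
  have d1 : D' * D = 1 := by
    ext i j; fin_cases i <;> fin_cases j <;> simp [D, D', ← pow_succ', hω]
  have d2 : D * D' = 1 := mul_eq_one_comm.1 d1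
  have d3 : D' * (D' * D') = 1 := by
    ext i j; fin_cases i <;> fin_cases j <;> simp [D']
    linear_combination hω
  have d4 : D * D * D = 1 := by
    ext i j; fin_cases i <;> fin_cases j <;> simp [D]
    linear_combination (ω ^ 3 + 1) * hω
  let δ : SpecialLinearGroup (Fin 3) K →* SpecialLinearGroup (Fin 3) K := MonoidHom.mk'
    (fun M => ⟨D * M.1 * D', by
      rw [det_mul, det_mul, M.2, mul_one, ← det_mul, d2, det_one]⟩) fun M N => Subtype.ext (by
      show D * (M.1 * N.1) * D' = D * M.1 * D' * (D * N.1 * D')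
      simp only [Matrix.mul_assoc]
      rw [← Matrix.mul_assoc D', d1, Matrix.one_mul])
  refine ⟨m.comp v, QuotientGroup.map _ _ δ fun M hM => ?_, ⟨fun x => ?_, ?_,
    ⟨m ⟨!![0, 1, 0; 1, 0, 0; 0, 0, 1], by simp [det_fin_three, CharTwo.neg_eq]⟩, fun x hx => ?_⟩,
    ⟨m ⟨!![1, 0, 0; 0, 0, 1; 0, 1, 0], by simp [det_fin_three, CharTwo.neg_eq]⟩, fun x hx => ?_⟩,
    fun l hl => ⟨m ⟨!![l, 0, 0; 0, l⁻¹, 0; 0, 0, 1], by simp [det_fin_three, hl]⟩, ?_⟩⟩,
    fun x => ?_, fun x => ?_⟩
  · obtain ⟨r, -, h⟩ := Matrix.SpecialLinearGroup.mem_center_iff.1 hM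
    rwa [mem_comap, show δ M = M from Subtype.ext (by
      show D * M.1 * D' = M.1
      rw [← h, ← (scalar_commute r (fun _ => mul_comm _ _) D).eq, Matrix.mul_assoc, d2,
        Matrix.mul_one])]
  · refine (QuotientGroup.eq_one_iff _).trans ⟨fun h => ?_, fun h => ?_⟩
    · obtain ⟨r, -, h⟩ := Matrix.SpecialLinearGroup.mem_center_iff.1 h
      rw [hv] at h
      exact ⟨by simpa using (congrFun (congrFun h 0) 2).symm,
        by simpa using (congrFun (congrFun h 1) 2).symm,
        by simpa using (congrFun (congrFun h 0) 1).symm⟩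
    · rw [show v x = 1 from Subtype.ext (by rw [hv, h.1, h.2.1, h.2.2]; exact one_fin_three.symm)]
      exact one_mem _
  · rw [MonoidHom.range_comp, show v.range = sylowSL 3 K 2 from le_antisymm
      (by rintro _ ⟨x, rfl⟩; exact (uni3 _ _ _).2) fun g hg => by
        obtain ⟨a, b, c, h⟩ := exists_uni3 ⟨g, hg⟩
        exact ⟨⟨0, c, b, a⟩, (congrArg Subtype.val h).symm⟩]
    exact fun h => (sylowSL 3 K 2).not_dvd_index
      (h.trans (index_map_dvd _ (QuotientGroup.mk'_surjective _)))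
  · refine cj _ _ _ ?_
    ext i j; fin_cases i <;> fin_cases j <;> simp [hv, mem_sA.1 hx, mul_apply, Fin.sum_univ_three]
  · refine cj _ _ _ ?_
    ext i j; fin_cases i <;> fin_cases j <;> simp [hv, mem_sQ.1 hx, mul_apply, Fin.sum_univ_three]
  · refine cj _ _ _ ?_
    ext i j; fin_cases i <;> fin_cases j <;> simp [hv, mul_apply, Fin.sum_univ_three]
  · obtain ⟨M, rfl⟩ := QuotientGroup.mk_surjective x
    refine congrArg m (Subtype.ext ?_)
    show D * (D * (D * M.1 * D') * D') * D' = M.1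
    simp only [Matrix.mul_assoc]
    rw [d3, ← Matrix.mul_assoc, ← Matrix.mul_assoc, d4, Matrix.mul_one, Matrix.one_mul]
  · refine congrArg m (Subtype.ext ?_)
    show D * (v x).1 * D' = _
    ext i j; fin_cases i <;> fin_cases j <;> simp [hv, D, D', mul_comm]
    linear_combination hω

theorem realizable_two {F : FusionSystem (⊤ : Subgroup (U K))} (hF : Sat F 2) (hN : F.core ≠ ⊥) :
    F.IsRealizable 2 := by
  by_cases hc : F.IsConstrained 2
  · exact Rk2.realizable_of_constrained hF.pg hc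
  obtain ⟨F, η, e, C⟩ := exists_cl hF hN hc
  refine Rk2.realizable_of_iso e ?_
  by_cases h : ∃ ω : K, ω ≠ 0 ∧ ω ≠ 1
  · obtain ⟨ω, ω0, ω1⟩ := h
    obtain ⟨u, γ, H, h1, h2⟩ := exists_hs (C.cube ω0)
    have hK : Fintype.card K = 4 := by
      classical
      have two : (2 : K) = 0 := CharTwo.two_eq_zero
      have h3 : ω + 1 ≠ 0 := fun h => ω1 (CharTwo.add_eq_zero.1 h)
      rw [← Finset.card_univ, show (Finset.univ : Finset K) = {0, 1, ω, ω + 1} from
        (Finset.eq_univ_of_forall fun y => by simpa using four_cases C.four ω y ω0 ω1).symm]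
      simp [Finset.card_insert_of_notMem, ω0, ω0.symm, ω1.symm, h3.symm]
    obtain ⟨X, _, _, π, η, h3, h4, h5, h6, h7⟩ := exists_cov (by
        rw [← (MonoidHom.range_eq_top.2 (QuotientGroup.mk'_surjective _)), MonoidHom.range_eq_map,
          ← commutator_SL_eq_top (Or.inl (by simp)), map_commutator_eq,
          MonoidHom.range_eq_top.2 (QuotientGroup.mk'_surjective _)]; rfl)
      (Cfsg.Agent.S2088.result hK) (AddMonoidHom.toMultiplicative
        (((ZMod.castHom (by decide : 2 ∣ 4) (ZMod 2)).toAddMonoidHom.prodMap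
          (ZMod.castHom (by decide : 2 ∣ 4) (ZMod 2)).toAddMonoidHom).comp (AddMonoidHom.snd _ _)))
      (by decide) (by decide) γ h1
    obtain ⟨ι, M⟩ := exists_md H h3 h4 ω0 ω1 (by simpa [hK] using h5) C.four
    by_cases hc : Cen F
    · obtain ⟨F', C', h8, h9⟩ := M.cen_model H
      exact C.realizable C' (iff_of_true hc h9) h8
    · obtain ⟨F', C', h8, h9⟩ := M.ncen_model H h6 h7 ω0 ω1 h2
      exact C.realizable C' (iff_of_false hc h9) h8
  · simp only [not_exists, not_and, not_not] at h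
    obtain ⟨u, -, H, -⟩ := exists_hs (one_pow 3 : (1 : K) ^ 3 = 1)
    obtain ⟨ι, M⟩ := md_two H fun t => by
      by_cases ht : t = 0
      · simp [ht]
      · simp [h t ht]
    obtain ⟨F', C', h8, h9⟩ := M.cen_model H
    refine C.realizable C' (iff_of_true (fun g hg x hx => ?_) h9) h8
    obtain ⟨μ, ν, μ0, ν0, h1⟩ := C.scal hg
    rw [C.actW hg μ0 ν0 h1 hx.2, h μ μ0, h ν ν0]
    ext <;> simp [hx.2.1, hx.2.2]

end Cfsg.Lib.Sp4F
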