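import Cfsg.Agent.Lib.Sp4F.Ev3
import Cfsg.Agent.Lib.Sp4F.Cov
import Cfsg.Agent.Lib.Transfer.Fusion

/-! # Characteristic two: models from central extensions -/

set_option autoImplicit false
set_option linter.unusedSectionVars false
set_option linter.unnecessarySeqFocus false

namespace Cfsg.Lib.Sp4F

open Subgroup Cfsg.Lib.Transfer Cfsg.Lib.Fusion
open Cfsg.FusionSystem hiding inv_mem
open scoped commutatorElement

variable {K : Type*} [Field K] [Finite K] [CharP K 2] {L X : Type*} [Group L] [Group X]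
  {u : U K →* L} {π : X →* L} {ι : U K →* X}

/-- The properties of the unitriangular group in `L₃(K)` that are used. -/
structure Hs (u : U K →* L) : Prop where
  ker : ∀ x, u x = 1 ↔ x ∈ sZ K
  syl : ¬ 2 ∣ u.range.index
  w1 : ∃ w : L, ∀ x ∈ sA K, w * u x * w⁻¹ = u ⟨0, x.c, x.b, 0⟩
  w2 : ∃ w : L, ∀ x ∈ sQ K, w * u x * w⁻¹ = u ⟨0, x.t, 0, x.b⟩
  tor : ∀ l : K, l ≠ 0 → ∃ h : L, h * u ⟨0, 1, 0, 0⟩ * h⁻¹ = u ⟨0, l, 0, 0⟩

theorem Hs.eq_iff (H : Hs u) {x y : U K} : u x = u y ↔ x.b = y.b ∧ x.c = y.c ∧ x.t = y.t := by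
  rw [← inv_mul_eq_one, ← map_inv, ← map_mul, H.ker]
  simp only [mem_sZ, U.mul_b, U.mul_c, U.mul_t, U.inv_b, U.inv_c, U.inv_t, neg_add_eq_zero]
  refine and_congr_left fun h => ?_
  rw [h.1]
  exact ⟨fun h => by linear_combination -h, fun h => by linear_combination -h⟩

theorem Hs.isConj (H : Hs u) {x : U K} (hx : x ∈ sA K ∨ x ∈ sQ K) (h : x ∉ sZ K) :
    IsConj (u ⟨0, 1, 0, 0⟩) (u x) := by
  have base : ∀ l : K, l ≠ 0 → IsConj (u ⟨0, 1, 0, 0⟩) (u ⟨0, l, 0, 0⟩) := fun l hl =>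
    isConj_iff.2 (H.tor l hl)
  have cj : ∀ s x : U K, IsConj (u x) (u (s * x * s⁻¹)) := fun s x =>
    isConj_iff.2 ⟨u s, by simp⟩
  by_cases hW : x ∈ sW K
  · rw [H.eq_iff.2 (show x.b = (⟨0, x.b, 0, 0⟩ : U K).b ∧ _ from ⟨rfl, hW.1, hW.2⟩)]
    exact base _ fun h1 => h ⟨h1, hW⟩
  rcases hx with hx | hx
  · have h1 : x.c ≠ 0 := fun h1 => hW ⟨h1, hx⟩
    obtain ⟨w, hw⟩ := H.w1
    convert ((base _ h1).trans (isConj_iff.2 ⟨w, hw _ rfl⟩)).trans
      (cj ⟨0, 0, 0, x.b / x.c⟩ _) using 1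
    rw [H.eq_iff]
    simp [h1, mem_sA.1 hx]
  · have h1 : x.t ≠ 0 := fun h1 => hW ⟨hx, h1⟩
    obtain ⟨w, hw⟩ := H.w2
    convert ((base _ h1).trans (isConj_iff.2 ⟨w, hw _ rfl⟩)).trans
      (cj ⟨0, 0, x.b / x.t, 0⟩ _) using 1
    rw [H.eq_iff]
    simp [h1, mem_sQ.1 hx, CharTwo.neg_eq, mul_div_cancel₀, CharTwo.add_self_eq_zero]

/-- An embedding of `U K` onto the preimage of the unitriangular group. -/
structure Md (u : U K →* L) (π : X →* L) (ι : U K →* X) : Prop where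
  surj : Function.Surjective π
  cen : π.ker ≤ center X
  inj : Function.Injective ι
  comp : ∀ x, π (ι x) = u x
  le : π.ker ≤ ι.range

theorem Md.range (M : Md u π ι) : ι.range = u.range.comap π :=
  le_antisymm (by rintro _ ⟨x, rfl⟩; exact ⟨x, (M.comp x).symm⟩) fun y ⟨x, hx⟩ => by
    simpa using mul_mem (show ι x ∈ ι.range from ⟨x, rfl⟩)
      (M.le (show (ι x)⁻¹ * y ∈ π.ker by simp [MonoidHom.mem_ker, M.comp, hx]))

theorem Md.model (H : Hs u) (M : Md u π ι) {G : Type*} [Group G] [Finite G] (j : X →* G)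
    (hj : Function.Injective j) (ho : ¬ 2 ∣ j.range.index)
    (hn : ∀ g : G, ∀ z ∈ π.ker, ∃ z' ∈ π.ker, j z' = g * j z * g⁻¹) :
    ∃ F : FusionSystem (⊤ : Subgroup (U K)), Cl F ∧ F.IsRealizable 2 ∧
      ∀ P f, Mor F P f ↔ ∃ g : G, ∀ x ∈ P, j (ι (f x)) = g * j (ι x) * g⁻¹ := by
  obtain ⟨F, h1, h2, h3⟩ := exists_model (ι := j.comp ι) (hj.comp M.inj) (by
    rw [MonoidHom.range_comp, index_map_of_injective _ hj, M.range,
      index_comap_of_surjective _ M.surj]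
    exact fun h => (Nat.prime_two.dvd_mul.1 h).elim H.syl ho)
  have key : ∀ (w : L) (x y : U K), w * u x * w⁻¹ = u y → ∀ g, π g = w →
      ∃ y', u y' = u y ∧ j (ι y') = j g * j (ι x) * (j g)⁻¹ := fun w x y h g hg => by
    have e : π (g * ι x * g⁻¹) = u y := by simp [M.comp, hg, h]
    obtain ⟨y', hy⟩ : g * ι x * g⁻¹ ∈ ι.range := M.range ▸ ⟨y, e.symm⟩
    exact ⟨y', by rw [← M.comp, hy, e], by simp [hy]⟩
  refine ⟨F, ⟨h1, ?_, ?_, ⟨1, 0, 0, 0⟩, ⟨rfl, rfl, rfl⟩, fun h => one_ne_zero (congrArg U.a h),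
    fun P f hf hP => ?_⟩, h2, h3⟩
  · obtain ⟨w, hw⟩ := H.w1
    obtain ⟨g, hg⟩ := M.surj w
    refine mv_of_model h3 sW_le_sA (j g) (fun x hx => ?_) (z := ⟨0, 1, 0, 0⟩) ⟨rfl, rfl⟩
      fun y hy e => ?_
    · obtain ⟨y, h4, h5⟩ := key w x _ (hw x hx) g hg
      exact ⟨y, (H.eq_iff.1 h4).2.2, h5⟩
    · obtain ⟨y', h4, h5⟩ := key w _ _ (hw ⟨0, 1, 0, 0⟩ rfl) g hg
      obtain rfl : y = y' := M.inj (hj (e.trans h5.symm))
      exact one_ne_zero ((H.eq_iff.1 h4).2.1.symm.trans hy.1)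
  · obtain ⟨w, hw⟩ := H.w2
    obtain ⟨g, hg⟩ := M.surj w
    refine mv_of_model h3 sW_le_sQ (j g) (fun x hx => ?_) (z := ⟨0, 1, 0, 0⟩) ⟨rfl, rfl⟩
      fun y hy e => ?_
    · obtain ⟨y, h4, h5⟩ := key w x _ (hw x hx) g hg
      exact ⟨y, (H.eq_iff.1 h4).2.1, h5⟩
    · obtain ⟨y', h4, h5⟩ := key w _ _ (hw ⟨0, 1, 0, 0⟩ rfl) g hg
      obtain rfl : y = y' := M.inj (hj (e.trans h5.symm))
      exact one_ne_zero ((H.eq_iff.1 h4).2.2.symm.trans hy.2)
  · obtain ⟨g, hg⟩ := (h3 P f).1 hf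
    obtain ⟨z, hz, e⟩ := hn g (ι ⟨1, 0, 0, 0⟩) ((M.comp _).trans ((H.ker _).2 ⟨rfl, rfl, rfl⟩))
    obtain rfl := hj (e.trans (hg _ hP).symm)
    exact ((H.ker _).1 ((M.comp _).symm.trans hz)).2

theorem Md.cen_model [Finite X] (H : Hs u) (M : Md u π ι) :
    ∃ F : FusionSystem (⊤ : Subgroup (U K)), Cl F ∧ F.IsRealizable 2 ∧ Cen F := by
  obtain ⟨F, h1, h2, h3⟩ := M.model H (MonoidHom.id X) Function.injective_id
    (by simp [(MonoidHom.range_eq_top (f := MonoidHom.id X)).2 Function.surjective_id])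
    fun g z hz => ⟨z, hz, by simp [mem_center_iff.1 (M.cen hz) g]⟩
  refine ⟨F, h1, h2, fun f hf x hx => M.inj ?_⟩
  obtain ⟨g, hg⟩ := (h3 _ f).1 hf
  simpa [mem_center_iff.1 (M.cen ((M.comp x).trans ((H.ker x).2 hx))) g] using hg x trivial

theorem Md.ncen_model [Finite X] (H : Hs u) (M : Md u π ι) {η : X →* X} {γ : L →* L}
    (h1 : ∀ x, π (η x) = γ (π x)) (h2 : ∀ x, η (η (η x)) = x) {ω : K} (ω0 : ω ≠ 0) (ω1 : ω ≠ 1)
    (h3 : ∀ x, γ (u x) = u ⟨0, ω * x.b, ω * x.c, x.t⟩) :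
    ∃ F : FusionSystem (⊤ : Subgroup (U K)), Cl F ∧ F.IsRealizable 2 ∧ ¬ Cen F := by
  let α : MulAut X := η.toMulEquiv (η.comp η) (MonoidHom.ext h2) (MonoidHom.ext h2)
  have hα : α ^ 3 = 1 := MulEquiv.ext h2
  have hk : ∀ β ∈ zpowers α, ∀ z ∈ π.ker, β z ∈ π.ker := fun β hβ => by
    obtain ⟨m, rfl⟩ := mem_powers_iff_mem_zpowers.2 hβ
    induction m with
    | zero => exact fun _ h => h
    | succ m ih =>
      intro z hz
      simp only [pow_succ', MulAut.mul_apply]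
      exact (h1 _).trans (by rw [ih (pow_mem (mem_zpowers α) m) z hz, map_one])
  have : Finite (X ⋊[(zpowers α).subtype] zpowers α) :=
    .of_equiv _ SemidirectProduct.equivProd.symm
  obtain ⟨F, C, h4, h5⟩ := M.model H (SemidirectProduct.inl : X →* X ⋊[(zpowers α).subtype] _)
    SemidirectProduct.inl_injective (by
      rw [SemidirectProduct.range_inl_eq_ker_rightHom, index_ker,
        MonoidHom.range_eq_top.2 SemidirectProduct.rightHom_surjective, card_top, Nat.card_zpowers]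
      exact fun h => absurd (h.trans (orderOf_dvd_of_pow_eq_one hα)) (by decide))
    fun g z hz => ⟨_, hk _ g.right.2 z hz, by
      ext
      · simp [mem_center_iff.1 (M.cen (hk _ g.right.2 z hz))]
      · simp⟩
  have key : ∀ x, ∃ y, ι y = η (ι x) := fun x =>
    M.range.ge ⟨_, (h3 x).symm.trans (by rw [h1, M.comp])⟩
  choose f hf using key
  refine ⟨F, C, h4, fun hc => ω1 (C.eq_of_cen hc ω0 one_ne_zero ⟨f, (h5 _ f).2
    ⟨SemidirectProduct.inr ⟨α, mem_zpowers α⟩, fun x _ => ?_⟩, fun x => ?_⟩)⟩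
  · rw [hf, ← map_inv, ← SemidirectProduct.inl_aut]; rfl
  · rw [one_mul]
    exact (H.eq_iff.1 (((M.comp _).symm.trans (by rw [hf, h1, M.comp])).trans (h3 x))).2

theorem md_two (H : Hs u) (h : ∀ t : K, t ^ 2 = t) :
    ∃ ι : U K →* Multiplicative K × L, Md u (MonoidHom.snd _ _) ι := by
  refine ⟨MonoidHom.prod (MonoidHom.mk' (fun x => Multiplicative.ofAdd (x.a + x.b)) fun x y => ?_)
    u, Prod.snd_surjective, fun z hz => mem_center_iff.2 fun y => ?_,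
    (injective_iff_map_eq_one _).2 fun x hx => ?_, fun _ => rfl, fun z hz => ⟨⟨z.1.toAdd, 0, 0, 0⟩,
      Prod.ext (by simp) (((H.ker _).2 ⟨rfl, rfl, rfl⟩).trans hz.symm)⟩⟩
  · rw [← ofAdd_add, U.mul_a, U.mul_b, h]
    congr 1
    linear_combination (x.t * y.b + x.t * y.c) * (CharTwo.two_eq_zero : (2 : K) = 0)
  · exact Prod.ext (mul_comm _ _) (by simp [show z.2 = 1 from hz])
  · obtain ⟨h1, h2, h3⟩ := (H.ker x).1 (congrArg Prod.snd hx)
    exact U.ext (by simpa [h1] using congrArg Prod.fst hx) h1 h2 h3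

theorem comm_of_sq {H : Type*} [Group H] {a b : H} (ha : a * a = 1) (hb : b * b = 1)
    (h : a * b * (a * b) = 1) : a * b = b * a := by
  rw [← inv_eq_iff_mul_eq_one] at ha hb h
  rw [← h, mul_inv_rev, ha, hb]

theorem exists_section (hπ : Function.Surjective π) (v : K → L) (hv : ∀ c d, v (c + d) = v c * v d)
    (h : ∀ y c, π y = v c → y * y = 1) :
    ∃ s : K → X, (∀ c d, s (c + d) = s c * s d) ∧ ∀ c, π (s c) = v c := by
  let v' : Multiplicative K →* L := MonoidHom.mk' (fun c => v c.toAdd) fun c d => hv _ _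
  let H := (π.comp (MonoidHom.fst X (Multiplicative K))).eqLocus (v'.comp (MonoidHom.snd _ _))
  have sq : ∀ y : H, y * y = 1 := fun y => Subtype.ext (Prod.ext (h _ _ y.2)
    (CharTwo.add_self_eq_zero y.1.2.toAdd))
  let _ : CommGroup H := { mul_comm := fun a b => comm_of_sq (sq a) (sq b) (sq _) }
  let _ : Module (ZMod 2) (Additive H) := AddCommGroup.zmodModule fun y => by
    rw [two_nsmul]; exact sq y.toMul
  let _ := ZMod.algebra K 2
  let f : Additive H →+ K := AddMonoidHom.mk' (fun y => y.toMul.1.2.toAdd) fun _ _ => rfl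
  obtain ⟨s, hs⟩ := (f.toZModLinearMap 2).exists_rightInverse_of_surjective
    (LinearMap.range_eq_top.2 fun c => by
      obtain ⟨y, hy⟩ := hπ (v c)
      exact ⟨Additive.ofMul ⟨(y, Multiplicative.ofAdd c), hy⟩, rfl⟩)
  exact ⟨fun c => (s c).toMul.1.1, fun c d => by simp only [map_add]; rfl, fun c =>
    (s c).toMul.2.trans (congrArg v (DFunLike.congr_fun hs c))⟩

section four

variable (H : Hs u) (hπ : IsStemExtension π) (h2 : ∀ z ∈ π.ker, z * z = 1) {ω : K} (ω0 : ω ≠ 0)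
  (ω1 : ω ≠ 1)
include H hπ h2 ω0 ω1

theorem lift_sq {y : X} {x : U K} (hx : x ∈ sA K ∨ x ∈ sQ K) (h : π y = u x) : y * y = 1 := by
  obtain ⟨y₀, h0⟩ := hπ.1 (u ⟨0, 1, 0, 0⟩)
  have cm : ∀ z ∈ π.ker, ∀ x, x * z = z * x := fun z hz => mem_center_iff.1 (hπ.2.1 hz)
  have z0 : y₀ * y₀ ∈ π.ker := by
    rw [MonoidHom.mem_ker, map_mul, h0, ← map_mul, sq_eq, H.ker]; simp
  have key : ∀ y x, x ∈ sA K ∨ x ∈ sQ K → x ∉ sZ K → π y = u x → y * y = y₀ * y₀ :=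
    fun y x hx h1 h => by
      obtain ⟨g, hg⟩ := isConj_iff.1 (H.isConj hx h1)
      obtain ⟨g, rfl⟩ := hπ.1 g
      obtain ⟨k, hk, rfl⟩ : ∃ k ∈ π.ker, y = g * y₀ * g⁻¹ * k :=
        ⟨(g * y₀ * g⁻¹)⁻¹ * y, by
          rw [MonoidHom.mem_ker, map_mul, map_inv, map_mul, map_mul, map_inv, h0, hg, h,
            inv_mul_cancel], by group⟩
      calc _ = g * y₀ * g⁻¹ * (k * (g * y₀ * g⁻¹)) * k := by group
        _ = g * (y₀ * y₀) * g⁻¹ * (k * k) := by rw [← cm k hk]; group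
        _ = _ := by rw [h2 k hk, cm _ z0, mul_one, mul_inv_cancel_right]
  have k2 : ∀ b c, c ≠ 0 → π b = u ⟨0, 0, c, 0⟩ → b * y₀ = y₀ * b * (y₀ * y₀) := fun b c c0 hb => by
    have e1 := key b _ (Or.inl rfl) (fun h => c0 h.2.1) hb
    have e2 := key (y₀ * b) (⟨0, 1, 0, 0⟩ * ⟨0, 0, c, 0⟩) (Or.inl (by simp))
      (fun h => c0 (by simpa using h.2.1)) (by rw [map_mul, map_mul, h0, hb])
    calc _ = y₀⁻¹ * (y₀ * b * (y₀ * b)) * b⁻¹ := by group
      _ = y₀ * b * (b * b)⁻¹ := by rw [e2]; group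
      _ = _ := by rw [e1, inv_eq_of_mul_eq_one_left (h2 _ z0)]
  have z1 : y₀ * y₀ = 1 := by
    obtain ⟨b, hb⟩ := hπ.1 (u ⟨0, 0, 1, 0⟩)
    obtain ⟨b', hb'⟩ := hπ.1 (u ⟨0, 0, ω, 0⟩)
    have e := k2 (b * b') (1 + ω) (fun h => ω1 (CharTwo.add_eq_zero.1 h).symm) (by
      rw [map_mul, hb, hb', ← map_mul]; congr 1; ext <;> simp)
    rw [mul_assoc, k2 b' ω ω0 hb', ← mul_assoc, ← mul_assoc b, k2 b 1 one_ne_zero hb] at e
    simp only [mul_assoc, mul_right_inj] at e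
    rwa [← mul_assoc y₀, mul_eq_right] at e
  by_cases h1 : x ∈ sZ K
  · exact h2 y (h.trans ((H.ker x).2 h1))
  · rw [key y x hx h1 h, z1]

theorem exists_md [Finite X] (hc : Nat.card K ≤ Nat.card π.ker) (h4 : ∀ t : K, t ^ 4 = t) :
    ∃ ι : U K →* X, Md u π ι := by
  have two : (2 : K) = 0 := CharTwo.two_eq_zero
  have sq := fun y x => lift_sq H hπ h2 ω0 ω1 (y := y) (x := x)
  have cen : ∀ w x₀, x₀ ∈ sW K → π w = u x₀ → ∀ y x, π y = u x → Commute w y :=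
    fun w x₀ h0 hw y x hy => by
      obtain ⟨y₁, h1⟩ := hπ.1 (u ⟨0, 0, 0, x.t⟩)
      have e : π (y * y₁⁻¹) = u (x * ⟨0, 0, 0, x.t⟩⁻¹) := by simp [hy, h1]
      have a : x * ⟨0, 0, 0, x.t⟩⁻¹ ∈ sA K := by simp
      rw [← inv_mul_cancel_right y y₁]
      exact Commute.mul_right (comm_of_sq (sq _ _ (.inl h0.2) hw) (sq _ _ (.inl a) e)
        (sq _ _ (.inl (mul_mem h0.2 a)) (by rw [map_mul, map_mul u, hw, e])))
        (comm_of_sq (sq _ _ (.inl h0.2) hw) (sq _ _ (.inr rfl) h1)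
          (sq _ (x₀ * ⟨0, 0, 0, x.t⟩) (.inr (by simp [h0.1])) (by rw [map_mul, map_mul u, hw, h1])))
  obtain ⟨C, C1, C2⟩ := exists_section hπ.1 (fun c : K => u ⟨0, 0, c, 0⟩)
    (fun c d => by rw [← map_mul]; congr 1; ext <;> simp) fun y c => sq y _ (.inl rfl)
  obtain ⟨T, T1, T2⟩ := exists_section hπ.1 (fun t : K => u ⟨0, 0, 0, t⟩)
    (fun c d => by rw [← map_mul]; congr 1; ext <;> simp) fun y c => sq y _ (.inr rfl)
  obtain ⟨β, hβ⟩ : ∃ β : K → K → X, ∀ t c, β t c = ⁅T t, C c⁆ := ⟨_, fun _ _ => rfl⟩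
  have b0 : ∀ t c, π (β t c) = u ⟨0, t * c, 0, 0⟩ := fun t c => by
    rw [hβ, map_commutatorElement, C2, T2, ← map_commutatorElement, H.eq_iff]
    simp [commutatorElement_def]
  have b1 : ∀ t c, ∀ y x, π y = u x → Commute (β t c) y := fun t c =>
    cen _ _ ⟨rfl, rfl⟩ (b0 t c)
  have b2 : ∀ t c d, β t (c + d) = β t c * β t d := fun t c d => by
    have := (b1 t d _ _ (C2 c)).eq
    rw [hβ, C1, ← mul_inv_cancel_right (β t d) (C c), this, hβ, hβ]
    simp only [commutatorElement_def]; group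
  have b3 : ∀ s t c, β (s + t) c = β s c * β t c := fun s t c => by
    have := (b1 t c _ _ (T2 s)).eq
    rw [hβ, T1, ← (b1 t c _ _ (b0 s c)).eq, ← mul_inv_cancel_right (β t c) (T s), this, hβ, hβ]
    simp only [commutatorElement_def]; group
  have b4 : ∀ t, β t 0 = 1 := fun t => by simpa using b2 t 0 0
  have b5 : ∀ c, β 0 c = 1 := fun c => by simpa using b3 0 0 c
  obtain ⟨ζ, hζ⟩ : ∃ ζ : K → K → X, ∀ a b, ζ a b = β 1 (b + ω * (a + b)) * β ω (a + b) :=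
    ⟨_, fun _ _ => rfl⟩
  have z0 : ∀ a b, π (ζ a b) = u ⟨0, b, 0, 0⟩ := fun a b => by
    rw [hζ, map_mul, b0, b0, ← map_mul, H.eq_iff]
    simp [add_assoc, CharTwo.add_self_eq_zero]
  have z1 : ∀ a b, ∀ y x, π y = u x → Commute (ζ a b) y := fun a b => cen _ _ ⟨rfl, rfl⟩ (z0 a b)
  have z2 : ∀ a b a' b', ζ (a + a') (b + b') = ζ a b * ζ a' b' := fun a b a' b' => by
    rw [hζ, hζ, hζ, show b + b' + ω * (a + a' + (b + b')) =
      b + ω * (a + b) + (b' + ω * (a' + b')) by ring, add_add_add_comm a, b2 1 (b + _),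
      b2 ω (a + b), (b1 _ _ _ _ (b0 _ _)).mul_mul_mul_comm]
  have r := four_root h4 ω0 ω1
  have z3 : ∀ c, ζ c c = β 1 c := fun c => by simp [hζ, CharTwo.add_self_eq_zero, b4]
  have z4 : ∀ c, ζ (ω ^ 2 * c) (ω * c) = β ω c := fun c => by
    rw [hζ, show ω ^ 2 * c + ω * c = c by linear_combination c * r - c * two,
      CharTwo.add_self_eq_zero, b4, one_mul]
  have z5 : ∀ t c, ζ (t ^ 2 * c) (t * c) = β t c := fun t c => by
    rcases four_cases h4 ω t ω0 ω1 with rfl | rfl | rfl | rfl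
    · simp [hζ, b4, b5]
    · simp [z3]
    · exact z4 c
    · rw [CharTwo.add_sq, add_mul, add_mul, z2, z4, b3]; simp [z3]
  let ι : U K →* X := MonoidHom.mk' (fun x => ζ x.a x.b * C x.c * T x.t) fun x y => by
    have e : T x.t * C y.c = β x.t y.c * (C y.c * T x.t) := by
      rw [hβ, commutatorElement_def]; group
    simp only [U.mul_a, U.mul_b, U.mul_c, U.mul_t, two, zero_mul, add_zero]
    rw [z2, z2, z5, C1, T1]
    calc _ = ζ x.a x.b * (ζ y.a y.b * (β x.t y.c * C x.c) * (C y.c * T x.t)) * T y.t := by group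
      _ = ζ x.a x.b * (ζ y.a y.b * C x.c * (T x.t * C y.c)) * T y.t := by
        rw [(b1 _ _ _ _ (C2 _)).eq, e]; group
      _ = ζ x.a x.b * C x.c * (ζ y.a y.b * T x.t) * C y.c * T y.t := by
        rw [(z1 _ _ _ _ (C2 _)).eq]; group
      _ = _ := by rw [(z1 _ _ _ _ (T2 _)).eq]; group
  have i1 : ∀ x, π (ι x) = u x := fun x => by
    show π (ζ x.a x.b * C x.c * T x.t) = u x
    rw [map_mul, map_mul, z0, C2, T2, ← map_mul, ← map_mul, H.eq_iff]; simp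
  have i2 : π.ker ≤ ι.range := fun z hz => by
    obtain ⟨P, hP⟩ := (exists_sylow_eq_iff (p := 2) (T := u.range.comap π)).2
      ⟨((U.isPGroup 2).of_surjective _ u.rangeRestrict_surjective).comap_of_ker_isPGroup _
        fun z => ⟨1, Subtype.ext (by simpa [pow_two] using h2 z z.2)⟩,
        by rw [index_comap_of_surjective _ hπ.1]; exact H.syl⟩
    refine commutator_le.2 (fun a ha b hb => ?_) (center_inf_commutator_inf_sylow_le P
      ⟨⟨hπ.2.1 hz, hπ.2.2 hz⟩, hP ▸ ⟨1, (map_one u).trans hz.symm⟩⟩)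
    rw [hP] at ha hb
    obtain ⟨x, hx⟩ := ha
    obtain ⟨y, hy⟩ := hb
    rw [← mul_inv_cancel_left (ι x) a, ← mul_inv_cancel_left (ι y) b,
      Schur.commutatorElement_mul_center (hπ.2.1 (by simp [MonoidHom.mem_ker, i1, hx]))
        (hπ.2.1 (by simp [MonoidHom.mem_ker, i1, hy])), ← map_commutatorElement]
    exact ⟨_, rfl⟩
  have hz : ∀ x ∈ sZ K, x = ⟨x.a, 0, 0, 0⟩ := fun x hx => U.ext rfl hx.1 hx.2.1 hx.2.2
  let g : K → π.ker := fun a => ⟨ι ⟨a, 0, 0, 0⟩, (i1 _).trans ((H.ker _).2 ⟨rfl, rfl, rfl⟩)⟩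
  have g1 : Function.Surjective g := fun z => by
    obtain ⟨x, hx⟩ := i2 z.2
    exact ⟨x.a, Subtype.ext (by
      rw [← hx, hz x ((H.ker x).1 (by rw [← i1, hx]; exact z.2))])⟩
  have g2 := (Nat.bijective_iff_surjective_and_card g).2
    ⟨g1, hc.antisymm (Nat.card_le_card_of_surjective g g1)⟩
  refine ⟨ι, hπ.1, hπ.2.1, (injective_iff_map_eq_one _).2 fun x hx => ?_, i1, i2⟩
  have h1 := hz x ((H.ker x).1 (by rw [← i1, hx, map_one]))
  rw [h1, g2.1 (show g x.a = g 0 from Subtype.ext ((h1 ▸ hx :).trans (map_one ι).symm))]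
  rfl

end four

end Cfsg.Lib.Sp4F
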