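import Cfsg.Agent.Lib.Sp4F.Gen
import Cfsg.Agent.Lib.Sp4F.Cub3

/-! # Odd characteristic: a nontrivial normal subgroup forces the system to be constrained -/

set_option autoImplicit false
set_option linter.unusedSectionVars false
set_option linter.unnecessarySeqFocus false

namespace Cfsg.Lib.Sp4F

open Subgroup Cfsg.Lib.Transfer Cfsg.Lib.Fusion
open Cfsg.FusionSystem hiding inv_mem

variable {K : Type*} [Field K] [Finite K] {p : ℕ} [hp : Fact p.Prime] [CharP K p]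
  {F : FusionSystem (⊤ : Subgroup (U K))} {E : Subgroup (U K)}

theorem ext_comm {Ω : Type*} [Group Ω] {E : Subgroup Ω} (α : MulAut E) {x y : Ω} (hx : x ∈ E)
    (hy : y ∈ E) (h : x * ext α⁻¹ y = ext α⁻¹ y * x) : ext α x * y = y * ext α x := by
  have h1 := ext_mem α⁻¹ hy
  rw [← ext_ext_inv α y, ← homOn_ext α _ hx _ h1, ← homOn_ext α _ h1 _ hx, h]

theorem sZ_le (hE : F.IsEssential p E) : sZ K ≤ E := fun x hx =>
  centralizerIn_le_of_centric hE.1 ⟨trivial, fun y _ => comm_of_sZ hx y⟩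

theorem eq_sA (hE : F.IsEssential p E) (h : E ≤ sA K) : E = sA K := le_antisymm h fun _ hx =>
  centralizerIn_le_of_centric hE.1 ⟨trivial, fun _ hy => comm_of_sA (h hy) hx⟩

theorem not_stab (hF : Sat F p) (hE : F.IsEssential p E) (h1 : F.autGroup E ≤ stab E (sW K))
    (h2 : F.autGroup E ≤ stab E (sZ K)) : False :=
  (lt_normalizerIn hF.pg (hF.lt_of_essential hE)).not_ge fun s hs =>
    mem_of_chain hF hE h1 h2 hs (fun x _ => by simp) (fun x _ hx => by simp [hx.1, hx.2]; ring)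
      fun x _ hx => comm_of_sZ hx s

theorem core_le_ess (hF : Sat F p) (hE : F.IsEssential p E) : F.core ≤ E :=
  le_of_normal_of_radical hF.pg (normal_core F) hE.1 (hF.radical_of_essential hE)

theorem conj_mem_core {x : U K} (hx : x ∈ F.core) (s : U K) : s * x * s⁻¹ ∈ F.core :=
  conj_mem_of_mem_normalizer (le_normalizer_of_stronglyClosed (sc_core F) trivial) hx

theorem mem_stab_inf {Ω : Type*} [Group Ω] [Finite Ω] {E L : Subgroup Ω} {α : MulAut E}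
    (h : ∀ x ∈ E, x ∈ L → ext α x ∈ L) : α ∈ stab E L := fun x hx => by
  have := mem_stab_of_mem (α := α) (inf_le_left : E ⊓ L ≤ E)
    (fun x hx => ⟨ext_mem α hx.1, h x hx.1 hx.2⟩) x hx
  simpa [hx, ext_mem α hx] using this

section
variable (two : (2 : K) ≠ 0)
include two

theorem comm_t {x y : U K} (hx : x ∈ sW K) (hb : x.b ≠ 0) (h : y * x = x * y) : y.t = 0 := by
  have := congrArg U.a h
  simp only [U.mul_a, hx.1, hx.2] at this
  have h1 : 2 * y.t * x.b = 0 := by linear_combination this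
  simpa [two, hb] using h1

theorem comm_z {x y : U K} (hx : x.t = 0) (hy : y.t ≠ 0) (h : y * x = x * y) : x ∈ sZ K := by
  have h1 := congrArg U.a h
  have h2 := congrArg U.b h
  simp only [U.mul_a, U.mul_b, hx] at h1 h2
  have h3 : x.c = 0 := (mul_eq_zero.1 (by linear_combination h2 : y.t * x.c = 0)).resolve_left hy
  have h4 : 2 * y.t * x.b = 0 := by rw [h3] at h1; linear_combination h1
  exact ⟨by simpa [two, hy] using h4, h3, hx⟩

theorem case1 (hF : Sat F p) (hE : F.IsEssential p E) {e v : U K} (he : e ∈ E) (e1 : e.t ≠ 0)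
    (hv : v ∈ E) (v1 : v.t = 0) : v.c = 0 := by
  by_contra v2
  have hZ : ∀ α : MulAut E, α ∈ stab E (sZ K) := fun α => mem_stab_inf fun x hx hz => by
    have h1 := congrArg U.b (ext_comm α hx hv (comm_of_sZ hz _).symm)
    simp only [U.mul_b, v1] at h1
    exact comm_z two ((mul_eq_zero.1 (by linear_combination h1 :
      (ext α x).t * v.c = 0)).resolve_right v2) e1 (ext_comm α hx he (comm_of_sZ hz _).symm).symm
  refine not_stab hF hE (fun α _ => mem_stab_inf fun x hx hw => ?_) fun α _ => hZ α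
  have key : ∀ y ∈ E, ext α x * y * (ext α x)⁻¹ * y⁻¹ ∈ sZ K := fun y hy => by
    have h1 := ext_mem α⁻¹ hy
    have h2 := mul_mem (mul_mem hx h1) (inv_mem hx)
    rw [← ext_ext_inv α y, ← (homOn_ext α).map_conj hx h1, ← (homOn_ext α).map_inv h1,
      ← homOn_ext α _ h2 _ (inv_mem h1), hZ α _ (mul_mem h2 (inv_mem h1))]
    simp [hw.1, hw.2]
  have h1 := (key v hv).1
  have h2 := (key e he).1
  simp only [U.mul_b, U.mul_c, U.mul_t, U.inv_b, U.inv_c, U.inv_t, v1] at h1 h2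
  have h3 := (mul_eq_zero.1 (by linear_combination h1 : (ext α x).t * v.c = 0)).resolve_right v2
  rw [h3] at h2
  exact ⟨(mul_eq_zero.1 (by linear_combination -h2 : e.t * (ext α x).c = 0)).resolve_left e1, h3⟩

theorem case3 (hF : Sat F p) (hE : F.IsEssential p E) (hN : F.core ≠ ⊥)
    (h : ∀ v ∈ E, v.t = 0 → v ∈ sZ K) : False := by
  have hZ : F.core ≤ sZ K := fun n hn => h n (core_le_ess hF hE hn) (by
    have := (h _ (core_le_ess hF hE (mul_mem (conj_mem_core hn ⟨0, 0, 1, 0⟩) (inv_mem hn)))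
      (by simp)).1
    simp at this
    linear_combination -this)
  have h1 : F.autGroup E ≤ stab E (sZ K) := fun α hα => mem_stab_inf fun z hz hz' => by
    by_contra h2
    have h3 : (ext α z).t ≠ 0 := fun h3 => h2 (h _ (ext_mem α hz) h3)
    obtain ⟨⟨n, hn⟩, n0⟩ := ne_bot_iff_exists_ne_one.1 hN
    refine n0 (Subtype.ext (hF.eq_one_of_central_normal (normal_core F) (fun s _ u hu =>
      (comm_of_sZ (hZ hu) s).symm) (mor_ext le_top hα) hz (fun s _ => (comm_of_sZ hz' s).symm)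
      (s := ⟨0, -n.a / (2 * (ext α z).t), 0, 0⟩) trivial hn ?_))
    obtain ⟨n1, n2, n3⟩ := hZ hn
    ext <;> simp [n1, n2, n3] <;> field_simp <;> ring
  exact not_stab hF hE (fun α hα => mem_stab_inf fun x hx hw =>
    sZ_le_sW ((h1 hα x hx).2 (h x hx hw.2))) h1

/-- The remaining type of essential subgroup. -/
structure TyQ (E : Subgroup (U K)) : Prop where
  ex : ∃ e ∈ E, U.t e ≠ 0
  c0 : ∀ v ∈ E, U.t v = 0 → U.c v = 0
  ex' : ∃ w ∈ E, w ∈ sW K ∧ U.b w ≠ 0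

theorem TyQ.stabZ (h : TyQ E) (α : MulAut E) : α ∈ stab E (sZ K) := by
  obtain ⟨e, he, e1⟩ := h.ex
  obtain ⟨w, hw, w1, w2⟩ := h.ex'
  exact mem_stab_inf fun x hx hz => comm_z two (comm_t two w1 w2
    (ext_comm α hx hw (comm_of_sZ hz _).symm)) e1 (ext_comm α hx he (comm_of_sZ hz _).symm).symm

theorem TyQ.le (h : TyQ E) (hF : Sat F p) (hE : F.IsEssential p E) : sW K ≤ E := fun s hs => by
  have key : ∀ x : U K, x⁻¹ * (s * x * s⁻¹) ∈ sZ K := fun x => by simp [hs.1, hs.2]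
  refine mem_of_chain hF hE (fun α _ => h.stabZ two α) (fun α _ => h.stabZ two α)
    ⟨trivial, mem_normalizer_of_conj_mem fun x hx => ?_⟩ (fun x _ => key x) (fun x _ _ => key x)
    fun x _ hx => comm_of_sZ hx s
  simpa using mul_mem hx (sZ_le hE (key x))

theorem TyQ.ti (h : TyQ E) (hW : sW K ≤ E) (α : MulAut E) : (∀ x ∈ sW K, ext α x ∈ sW K) ∨
    ∀ x ∈ sW K, ext α x ∈ sW K → x ∈ sZ K := by
  refine or_iff_not_imp_left.2 fun h1 x hx h2 => ?_
  push Not at h1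
  obtain ⟨y, hy, h3⟩ := h1
  refine (h.stabZ two α x (hW hx)).1 (comm_z two h2.2 (y := ext α y)
    (fun h4 => h3 ⟨h.c0 _ (ext_mem α (hW hy)) h4, h4⟩) ?_)
  rw [← homOn_ext α _ (hW hy) _ (hW hx), ← homOn_ext α _ (hW hx) _ (hW hy), comm_of_sA hy.2 hx.2]

theorem TyQ.exists_move (h : TyQ E) (hF : Sat F p) (hE : F.IsEssential p E) :
    ∃ φ ∈ F.autGroup E, ¬ ∀ x ∈ sW K, ext φ x ∈ sW K := by
  by_contra! h1
  exact not_stab hF hE (fun α hα => mem_stab_inf fun x _ => h1 α hα x) fun α _ => h.stabZ two α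

omit two in
theorem tyQ : TyQ (sQ K) :=
  ⟨⟨⟨0, 0, 0, 1⟩, rfl, one_ne_zero⟩, fun _ h _ => h, ⟨0, 1, 0, 0⟩, rfl, ⟨rfl, rfl⟩, one_ne_zero⟩

theorem torus (hF : Sat F p) (hE : F.IsEssential p (sQ K)) {l : K} (hl : l ≠ 0) :
    ∃ g, Mor F ⊤ g ∧ (∀ x ∈ sZ K, g x = x) ∧ (∀ x ∈ sW K, (g x).b = l * x.b) ∧
      (∀ x, (g x).t = x.t / l) ∧ ∀ x, (g x).c = l ^ 2 * x.c := by
  obtain ⟨_, act⟩ := exists_act (F.autGroup (sQ K)) (fun x => (x.b, x.t))
    (fun v => ⟨0, v.1, 0, v.2⟩) (fun _ => rfl) (fun _ => rfl)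
    (fun x _ y hy => by simp [mem_sQ.1 hy]) fun α _ x hx h => by
      have := (tyQ.stabZ two α x hx).2 ⟨congrArg Prod.fst h, hx, congrArg Prod.snd h⟩
      exact Prod.ext this.1 this.2.2
  have act' : ∀ (g : F.autGroup (sQ K)) (v : K × K), g • v =
      ((ext g.1 ⟨0, v.1, 0, v.2⟩).b, (ext g.1 ⟨0, v.1, 0, v.2⟩).t) := fun g v =>
    act g ⟨0, v.1, 0, v.2⟩ rfl
  obtain ⟨φ, hφ, h1⟩ := tyQ.exists_move two hF hE
  have nq : ∀ s : U K, s ∈ normalizer (sQ K : Set (U K)) := fun s =>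
    le_normalizer_of_normal (mem_top s)
  have dec : ∀ (α : MulAut (sQ K)), ∀ x ∈ sW K, (ext α x).t = (ext α ⟨0, x.b, 0, 0⟩).t :=
    fun α x hx => by
      have h2 : (⟨x.a, 0, 0, 0⟩ : U K) ∈ sZ K := ⟨rfl, rfl, rfl⟩
      rw [show x = ⟨x.a, 0, 0, 0⟩ * ⟨0, x.b, 0, 0⟩ by ext <;> simp [hx.1, hx.2],
        homOn_ext α _ h2.2.1 _ rfl, U.mul_t, ((tyQ.stabZ two α _ h2.2.1).2 h2).2.2]
      simp
  obtain ⟨h, h2, h3, h4⟩ := tor (G := F.autGroup (sQ K))
    (fun u => ⟨cjA _ ⟨0, 0, -u, 0⟩, cjA_mem_autGroup F le_top trivial⟩)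
    (fun u v => by rw [act', ext_cjA (nq _) rfl]; ext <;> simp [mul_comm])
    (fun g => (tyQ.ti two sW_le_sQ g.1).imp (fun h b => by rw [act']; exact (h _ ⟨rfl, rfl⟩).2)
      fun h b hb => (h ⟨0, b, 0, 0⟩ ⟨rfl, rfl⟩ ⟨ext_mem g.1 rfl, by rwa [act'] at hb⟩).1)
    ⟨φ, hφ⟩ (fun h => h1 fun x hx => ⟨ext_mem φ hx.1, by
      rw [dec φ x hx]; have := h x.b; rwa [act'] at this⟩)
    ((fixer (sQ K) (sZ K)).subgroupOf _)
    (fun u x hx => by
      show ext (cjA _ _) x = x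
      rw [ext_cjA (nq _) hx.2.1, comm_of_sZ hx, mul_inv_cancel_right])
    (fun u x hx => by
      show ext (φ * cjA _ _ * φ⁻¹) x = x
      have := (tyQ.stabZ two φ⁻¹ x hx.2.1).2 hx
      rw [ext_mul, ext_mul, ext_cjA (nq _) this.2.1, comm_of_sZ this, mul_inv_cancel_right,
        ext_ext_inv]) hl
  have h5 : ∀ x ∈ sQ K, (ext h.1 x).t = x.t / l := fun x hx => by
    have := h3 (x.b, x.t); rwa [act h x hx] at this
  have h6 : ∀ x ∈ sW K, (ext h.1 x).b = l * x.b := fun x hx => by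
    have := h4 x.b
    rw [← hx.2, act h x hx.1] at this
    exact congrArg Prod.fst this
  obtain ⟨g, g1, g2⟩ := ext_of_chain hF le_top (fun s _ => nq s) (L := sW K) (M := sZ K)
    le_normalizer_of_normal le_normalizer_of_normal (fun s _ x _ => by simp)
    (fun s _ x _ hx => by simp [hx.1, hx.2]; ring) (fun s _ x _ hx => comm_of_sZ hx s) h.2
    (mem_stab_inf fun x hx hw => ⟨ext_mem _ hx, by rw [h5 x hx, hw.2, zero_div]⟩)
    (tyQ.stabZ two _)
  have hm : ∀ x y, g (x * y) = g x * g y := fun x y => g1.homOn x trivial y trivial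
  have g3 : ∀ x ∈ sQ K, (g x).c = 0 := fun x hx => by rw [g2 x hx]; exact ext_mem _ hx
  have g4 : ∀ x ∈ sQ K, (g x).t = x.t / l := fun x hx => by rw [g2 x hx, h5 x hx]
  have g5 : ∀ x ∈ sW K, (g x).b = l * x.b := fun x hx => by rw [g2 x hx.1, h6 x hx]
  have g6 : ∀ c : K, (g ⟨0, 0, c, 0⟩).t = 0 := fun c =>
    comm_t two (x := g ⟨0, 1, 0, 0⟩) ⟨g3 _ rfl, by rw [g4 _ rfl, zero_div]⟩
      (by rw [g5 _ ⟨rfl, rfl⟩, mul_one]; exact hl) (by rw [← hm, ← hm, comm_of_sA rfl rfl])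
  have g7 : ∀ c : K, (g ⟨0, 0, c, 0⟩).c = l ^ 2 * c := fun c => by
    have := congrArg (fun x => (g x).b) (show (⟨0, 0, 0, 1⟩ : U K) * ⟨0, 0, c, 0⟩ =
      ⟨c, c, 0, 0⟩ * (⟨0, 0, c, 0⟩ * ⟨0, 0, 0, 1⟩) by ext <;> simp)
    simp only [hm, U.mul_b, U.mul_c, g6, g4 ⟨0, 0, 0, 1⟩ rfl, g4 ⟨c, c, 0, 0⟩ rfl,
      g5 ⟨c, c, 0, 0⟩ ⟨rfl, rfl⟩] at this
    field_simp at this
    linear_combination this
  have dec2 : ∀ x : U K, x = ⟨0, 0, x.c, 0⟩ * ⟨x.a, x.b, 0, x.t⟩ := fun x => by ext <;> simp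
  refine ⟨g, g1, fun x hx => by rw [g2 x hx.2.1]; exact h2 x hx, g5, fun x => ?_, fun x => ?_⟩
  · rw [dec2 x, hm, U.mul_t, g6, g4 _ rfl]; simp
  · rw [dec2 x, hm, U.mul_c, g7, g3 _ rfl]; simp

theorem not_both (hF : Sat F p) (hN : F.core ≠ ⊥) (hQ : F.IsEssential p (sQ K))
    (hA : F.IsEssential p (sA K)) : False := by
  have hZ : F.core ≤ sZ K := fun n hn => by
    obtain ⟨φ, hφ, h1⟩ := tyQ.exists_move two hF hQ
    have h2 := core_le_ess hF hQ hn
    have h3 := (mor_ext le_top hφ).mem_of_stronglyClosed (sc_core F) h2 hn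
    exact (tyQ.ti two sW_le_sQ φ).resolve_left h1 n ⟨h2, core_le_ess hF hA hn⟩
      ⟨core_le_ess hF hQ h3, core_le_ess hF hA h3⟩
  obtain ⟨_, act⟩ := exists_act (F.autGroup (sA K)) (fun x => (x.a, x.b, x.c))
    (fun v => ⟨v.1, v.2.1, v.2.2, 0⟩) (fun _ => rfl) (fun _ => rfl)
    (fun x hx y _ => by simp [mem_sA.1 hx]) fun α _ x hx h => by
      rw [show x = 1 from U.ext (congrArg (·.1) h) (congrArg (·.2.1) h) (congrArg (·.2.2) h) hx,
        (homOn_ext α).map_one]; rfl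
  have act' : ∀ (g : F.autGroup (sA K)) (v : K × K × K), g • v =
      ((ext g.1 ⟨v.1, v.2.1, v.2.2, 0⟩).a, (ext g.1 ⟨v.1, v.2.1, v.2.2, 0⟩).b,
        (ext g.1 ⟨v.1, v.2.1, v.2.2, 0⟩).c) := fun g v => act g ⟨v.1, v.2.1, v.2.2, 0⟩ rfl
  have na : ∀ s : U K, s ∈ normalizer (sA K : Set (U K)) := fun s =>
    le_normalizer_of_normal (mem_top s)
  obtain ⟨-, R, hR⟩ := hF.fa hA.2.1
  have C : Cub K (fun t => (⟨cjA _ ⟨0, 0, 0, t⟩, cjA_mem_autGroup F le_top trivial⟩ :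
      F.autGroup (sA K))) R := by
    refine ⟨fun h => two (by subst h; exact CharTwo.two_eq_zero), fun g hg => Subtype.ext
      (eq_one_of_ext fun x hx => ?_), fun t v => ?_, fun g => ?_⟩
    · have := hg (x.a, x.b, x.c)
      rw [act g x hx] at this
      exact U.ext (congrArg (·.1) this) (congrArg (·.2.1) this) (congrArg (·.2.2) this)
        ((ext_mem g.1 hx).trans hx.symm)
    · rw [act', ext_cjA (na _) rfl]; ext <;> simp
    · change g ∈ (R : Subgroup (F.autGroup (sA K))) ↔ _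
      rw [hR, mem_subgroupOf, mem_autInducedBy']
      refine ⟨fun ⟨s, _, _, e⟩ => ⟨s.t, Subtype.ext (e ▸ eq_of_ext fun x hx => ?_)⟩,
        fun ⟨t, e⟩ => ⟨_, trivial, na _, by rw [e]⟩⟩
      rw [ext_cjA (na _) hx, ext_cjA (na _) hx]
      ext <;> simp [mem_sA.1 hx] <;> ring
  obtain ⟨⟨n, hn⟩, n0⟩ := ne_bot_iff_exists_ne_one.1 hN
  obtain ⟨n1, n2, n3⟩ := hZ hn
  have key := C.main (n₀ := n.a) (fun l hl => ?_) (fun h => n0 (Subtype.ext (U.ext h n1 n2 n3)))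
    fun g => ?_
  · refine not_stab hF hA (fun α hα => mem_stab_inf fun x hx hw => ?_)
      fun α hα => mem_stab_inf fun x hx hz => ?_
    · have := ((key ⟨α, hα⟩).2 (x.a, x.b, x.c)).2 hw.1
      rw [act _ x hx] at this
      exact ⟨this, ext_mem α hx⟩
    · have := ((key ⟨α, hα⟩).1 (x.a, x.b, x.c)).2 (Prod.ext hz.1 hz.2.1)
      rw [act _ x hx] at this
      exact ⟨congrArg Prod.fst this, congrArg Prod.snd this, ext_mem α hx⟩
  · obtain ⟨g, g1, g2, g3, g4, g5⟩ := torus two hF hQ hl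
    obtain ⟨α, hα, e⟩ := (g1.mono (le_top : sA K ≤ ⊤)).exists_aut' fun x hx => by
      rw [mem_sA, g4, mem_sA.1 hx, zero_div]
    refine ⟨⟨α, hα⟩, fun v hv => ?_, fun v hv => ?_, fun v => ?_⟩
    · rw [act', e _ rfl, g2 _ ⟨congrArg Prod.fst hv, congrArg Prod.snd hv, rfl⟩]
    · rw [act', e _ rfl, g3 _ ⟨hv, rfl⟩, g5]; simp [hv]
    · rw [act', e _ rfl, g5]
  · have h1 := hZ ((mor_ext le_top g.2).mem_of_stronglyClosed (sc_core F) n3 hn)
    rw [show ((n.a, 0, 0) : K × K × K) = (n.a, n.b, n.c) by rw [n1, n2], act g n n3]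
    exact Prod.ext h1.1 h1.2.1

theorem TyQ.exists_eta (h : TyQ E) (hF : Sat F p) (hE : F.IsEssential p E) :
    ∃ (η : U K →* U K) (γ : K →+ K), Function.Injective η ∧ (∀ x ∈ sA K, η x = x) ∧
      (∀ x, (η x).t = x.t) ∧ (∀ x, (η x).c = x.c - γ x.t) ∧ ∀ x, x ∈ E ↔ x.c = γ x.t := by
  have hW := h.le two hF hE
  obtain ⟨φ, -, h1⟩ := h.exists_move two hF hE
  have h2 := (h.ti two hW φ).resolve_left h1
  have hb : ∀ b : K, (⟨0, b, 0, 0⟩ : U K) ∈ E := fun b => hW ⟨rfl, rfl⟩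
  have ad : ∀ b b' : K, ext φ ⟨0, b + b', 0, 0⟩ = ext φ ⟨0, b, 0, 0⟩ * ext φ ⟨0, b', 0, 0⟩ :=
    fun b b' => by rw [← homOn_ext φ _ (hb b) _ (hb b')]; congr 1; ext <;> simp
  let m : K →+ K := AddMonoidHom.mk' (fun b => (ext φ ⟨0, b, 0, 0⟩).t) fun b b' => by
    rw [ad, U.mul_t]
  have m0 : ∀ b, m b = 0 → b = 0 := fun b hb' =>
    (h2 ⟨0, b, 0, 0⟩ ⟨rfl, rfl⟩ ⟨h.c0 _ (ext_mem φ (hb b)) hb', hb'⟩).1
  let e := AddEquiv.ofBijective m ⟨(injective_iff_map_eq_zero _).2 m0, surj_of_ker _ m0⟩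
  obtain ⟨ω, o1, o2, o3⟩ : ∃ ω : K → U K, (∀ t, ω t ∈ E) ∧ (∀ t, (ω t).t = t) ∧
      ∀ s t, ω (s + t) = ω s * ω t :=
    ⟨fun t => ext φ ⟨0, e.symm t, 0, 0⟩, fun t => ext_mem φ (hb _), fun t => e.apply_symm_apply t,
      fun s t => by simp only [map_add, ad]⟩
  have o0 : ω 0 = 1 := by simpa using o3 0 0
  refine ⟨MonoidHom.mk' (fun x => ⟨x.a - (ω x.t).a, x.b - (ω x.t).b, x.c - (ω x.t).c, x.t⟩)
    fun x y => by ext <;> simp [o3, o2] <;> ring, AddMonoidHom.mk' (fun t => (ω t).c)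
    fun s t => by simp [o3], (injective_iff_map_eq_one _).2 fun x hx => ?_, fun x hx => ?_,
    fun _ => rfl, fun _ => rfl, fun x => ⟨fun hx => ?_, fun hx => ?_⟩⟩
  · have h3 : x.t = 0 := congrArg U.t hx
    simpa [h3, o0, U.ext_iff] using hx
  · ext <;> simp [mem_sA.1 hx, o0]
  · simpa [sub_eq_zero, ← sub_eq_add_neg] using h.c0 _ (mul_mem hx (inv_mem (o1 x.t))) (by simp [o2])
  · simpa using mul_mem (hW (show x * (ω x.t)⁻¹ ∈ sW K from
      ⟨by simpa [sub_eq_zero, ← sub_eq_add_neg] using hx, by simp [o2]⟩)) (o1 x.t)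

theorem TyQ.main (h : TyQ E) (hF : Sat F p) (hE : F.IsEssential p E) :
    (F.core ≠ ⊥ → ¬ F.IsEssential p (sA K)) ∧ ∃ γ : K →+ K, (∀ x, x ∈ E ↔ x.c = γ x.t) ∧
      ∃ g, Mor F ⊤ g ∧ (∀ x, (g x).t = -x.t) ∧ ∀ x, (g x).c = x.c - 2 * γ x.t := by
  obtain ⟨η, γ, h1, h2, h3, h4, h5⟩ := h.exists_eta two hF hE
  have sj := Finite.injective_iff_surjective.1 h1
  obtain ⟨F', e⟩ := exists_iso F (homOn_hom ⊤ η) h1.injOn (S' := ⊤) (by
    rw [im_hom, ← MonoidHom.range_eq_map, MonoidHom.range_eq_top.2 sj])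
  have i1 : im η E = sQ K := by
    rw [im_hom]
    ext x
    obtain ⟨x, rfl⟩ := sj x
    rw [mem_map_iff_mem h1, h5, mem_sQ, h4, sub_eq_zero]
  have hQ : F'.IsEssential p (sQ K) := i1 ▸ (e.essential_iff le_top).2 hE
  refine ⟨fun hN hA => not_both two (e.sat hF) (fun h => hN ?_) hQ ?_, γ, h5, ?_⟩
  · rwa [← e.im_core, e.im_eq_bot_iff le_top] at h
  · rw [← im_eq_self h2]; exact (e.essential_iff le_top).2 hA
  · obtain ⟨g, g1, -, -, g2, g3⟩ := torus two (e.sat hF) hQ (neg_ne_zero.2 one_ne_zero)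
    obtain ⟨f, f1, f2⟩ := e.up le_top (g1.mono le_top)
    have f3 : ∀ x, (f x).t = -x.t := fun x => by
      rw [← h3, ← f2 x (mem_top x), g2, h3, div_neg, div_one]
    refine ⟨f, f1, f3, fun x => ?_⟩
    have := g3 (η x)
    rw [f2 x (mem_top x), h4, h4, f3, map_neg] at this
    linear_combination this

theorem constrained_odd (hF : Sat F p) (hN : F.core ≠ ⊥) : F.IsConstrained p := by
  have cls : ∀ E, F.IsEssential p E → E = sA K ∨ TyQ E := fun E hE => by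
    refine or_iff_not_imp_left.2 fun h => ?_
    obtain ⟨e, he, e1⟩ := SetLike.not_le_iff_exists.1 fun h1 => h (eq_sA hE h1)
    refine ⟨⟨e, he, e1⟩, fun v => case1 two hF hE he e1, ?_⟩
    by_contra! h2
    exact case3 two hF hE hN fun v hv v1 =>
      ⟨h2 v hv ⟨case1 two hF hE he e1 hv v1, v1⟩, case1 two hF hE he e1 hv v1, v1⟩
  refine constrained_of_unique hF fun E E' hE hE' => ?_
  rcases cls E hE with rfl | h <;> rcases cls E' hE' with rfl | h'
  · rfl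
  · exact absurd hE ((h'.main two hF hE').1 hN)
  · exact absurd hE' ((h.main two hF hE).1 hN)
  obtain ⟨γ, h1, g, g1, g2, g3⟩ := (h.main two hF hE).2
  obtain ⟨γ', h1', g', g1', g2', g3'⟩ := (h'.main two hF hE').2
  obtain ⟨m, hm, s, -, hs⟩ := mor_pow_inner hF (g1.comp g1' fun _ _ => trivial)
  have key : ∀ (n : ℕ) (x : U K), ((fun x => g' (g x))^[n] x).t = x.t ∧
      ((fun x => g' (g x))^[n] x).c = x.c + n * (2 * (γ' x.t - γ x.t)) := fun n => by
    induction n with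
    | zero => simp
    | succ n ih =>
      intro x
      rw [Function.iterate_succ_apply', g2', g2, g3', g3, g2, (ih x).1, (ih x).2, map_neg]
      exact ⟨neg_neg _, by push_cast; ring⟩
  have e : ∀ t, γ' t = γ t := fun t => by
    have := (key m ⟨0, 0, 0, t⟩).2
    rw [hs _ trivial, U.conj_c] at this
    simpa [two, (CharP.cast_eq_zero_iff K p m).not.2 hm, sub_eq_zero] using this
  ext x
  rw [h1, h1', e]

end

end Cfsg.Lib.Sp4F
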